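/-
Two-groups with a central four-group, an automorphism of order three and a commuting involutory
automorphism whose fixed points are the four-group.
-/
import Mathlib
import Cfsg.Agent.Lib.Fg6.OrderThreeAut
import Cfsg.Agent.Lib.Elem70.ClassTwoRank

set_option autoImplicit false
set_option linter.style.haveILetI false
set_option linter.unusedSectionVars false

namespace Cfsg.Agent.Lib.LAEven56.CentralFour

open scoped commutatorElement

variable {T : Type*} [Group T]

/-- The setting. -/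
structure Hyp (V : Subgroup T) (t r : T ≃* T) : Prop where
  two : IsPGroup 2 T
  cent : V ≤ Subgroup.center T
  card : Nat.card V = 4
  exp : ∀ v ∈ V, v * v = 1
  tt : ∀ x, t (t x) = x
  fix : ∀ x, t x = x ↔ x ∈ V
  rrr : ∀ x, r (r (r x)) = x
  comm : ∀ x, t (r x) = r (t x)
  fpfV : ∀ v ∈ V, r v = v → v = 1

theorem card_four {H : Subgroup T} {a b : T} (ha : a ∈ H) (hb : b ∈ H) (ha1 : a ≠ 1) (hb1 : b ≠ 1)
    (hab : a ≠ b) (hab1 : a * b ≠ 1) (hall : ∀ h ∈ H, h = 1 ∨ h = a ∨ h = b ∨ h = a * b) :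
    Nat.card H = 4 := by
  let f : Fin 4 → H := ![1, ⟨a, ha⟩, ⟨b, hb⟩, ⟨a * b, H.mul_mem ha hb⟩]
  have hf : Function.Bijective f := by
    constructor
    · intro i j h
      have hb2 : a * b ≠ a := fun e => hb1 (mul_eq_left.1 e)
      have ha2 : a * b ≠ b := fun e => ha1 (mul_eq_right.1 e)
      fin_cases i <;> fin_cases j <;> first | rfl | (exfalso; simp [f, Subtype.ext_iff] at h; tauto)
    · rintro ⟨h, hh⟩
      rcases hall h hh with rfl | rfl | rfl | rfl
      · exact ⟨0, rfl⟩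
      · exact ⟨1, rfl⟩
      · exact ⟨2, rfl⟩
      · exact ⟨3, rfl⟩
  rw [← Nat.card_congr (Equiv.ofBijective f hf), Nat.card_fin]

namespace Hyp

variable [Finite T] {V : Subgroup T} {t r : T ≃* T} (h : Hyp V t r)
include h

theorem r_mem {v : T} (hv : v ∈ V) : r v ∈ V := by
  rw [← h.fix, h.comm, (h.fix v).2 hv]

theorem central {v : T} (hv : v ∈ V) (x : T) : x * v = v * x :=
  Subgroup.mem_center_iff.1 (h.cent hv) x

theorem exists_fixed {N : Subgroup T} (hN : ∀ x ∈ N, t x ∈ N) (hne : N ≠ ⊥) :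
    ∃ n ∈ N, n ≠ 1 ∧ n ∈ V := by
  haveI : Fact (Nat.Prime 2) := ⟨Nat.prime_two⟩
  by_contra hc
  push Not at hc
  let f : N →* N :=
    { toFun := fun x => ⟨t x, hN x x.2⟩
      map_one' := Subtype.ext (map_one t)
      map_mul' := fun a b => Subtype.ext (map_mul t (a : T) b) }
  have hfpf : MonoidHom.FixedPointFree f := fun g hg => by
    by_contra hg1
    exact hc g g.2 (fun e => hg1 (Subtype.ext e)) ((h.fix g).1 (congrArg Subtype.val hg))
  have hodd := hfpf.odd_card_of_involutive (fun g => Subtype.ext (h.tt g))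
  obtain ⟨k, hk⟩ := IsPGroup.iff_card.1 (h.two.to_subgroup N)
  rcases k with _ | k
  · exact hne (Subgroup.card_eq_one.1 (by simpa using hk))
  · rw [hk, pow_succ] at hodd
    exact Nat.not_even_iff_odd.2 hodd ⟨2 ^ k, by ring⟩

theorem fpf {x : T} (hx : r x = x) : x = 1 := by
  let C : Subgroup T :=
    { carrier := {y | r y = y}
      one_mem' := map_one r
      mul_mem' := fun {a b} ha hb => by simp only [Set.mem_ofPred_eq, map_mul] at *; rw [ha, hb]
      inv_mem' := fun {a} ha => by simp only [Set.mem_ofPred_eq, map_inv] at *; rw [ha] }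
  by_contra hx1
  obtain ⟨n, hn, hn1, hnV⟩ := h.exists_fixed (N := C)
    (fun y hy => by
      show r (t y) = t y
      rw [← h.comm, show r y = y from hy])
    (fun e => hx1 ((Subgroup.eq_bot_iff_forall C).1 e x hx))
  exact hn1 (h.fpfV n hnV hn)

theorem rel (x : T) : x * r x * r (r x) = 1 := by
  have hf : MonoidHom.FixedPointFree r := fun g hg => h.fpf hg
  have := hf.prod_pow_eq_one (n := 3) (funext fun y => h.rrr y) x
  simpa [List.range_succ, mul_assoc] using this

theorem rr_eq (x : T) : r (r x) = (x * r x)⁻¹ := eq_inv_of_mul_eq_one_right (h.rel x)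

theorem comm_self (x : T) : x * r x = r x * x :=
  commutatorElement_eq_one_iff_mul_comm.1
    ((Fg6.OrderThreeAut.order_three_facts r.toMonoidHom h.rel).2.1 x)

theorem comm_center (a b : T) : ⁅a, b⁆ ∈ Subgroup.center T := by
  have := h.two.isNilpotent
  haveI : Fact (Nat.Prime 2) := ⟨Nat.prime_two⟩
  exact Elem70.ClassTwoRank.commutator_mem_center
    (Fg6.OrderThreeAut.nilpotencyClass_le_two h.two r.toMonoidHom h.rel) a b

theorem V_cases {v : T} (hv : v ∈ V) (hv1 : v ≠ 1) {w : T} (hw : w ∈ V) :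
    w = 1 ∨ w = v ∨ w = r v ∨ w = v * r v := by
  by_contra hc
  push Not at hc
  obtain ⟨h1, h2, h3, h4⟩ := hc
  have hr1 : r v ≠ 1 := fun e => hv1 ((map_eq_one_iff r r.injective).1 e)
  have hr2 : v ≠ r v := fun e => hv1 (h.fpf e.symm)
  have hr3 : v * r v ≠ 1 := fun e => hr2 (by
    calc v = v * (v * r v) := by rw [e, mul_one]
      _ = r v := by rw [← mul_assoc, h.exp v hv, one_mul])
  have hr4 : v * r v ≠ v := fun e => hr1 (mul_eq_left.1 e)
  have hr5 : v * r v ≠ r v := fun e => hv1 (mul_eq_right.1 e)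
  have hrv : r v ∈ V := h.r_mem hv
  let f : Fin 5 → V :=
    ![1, ⟨v, hv⟩, ⟨r v, hrv⟩, ⟨v * r v, V.mul_mem hv hrv⟩, ⟨w, hw⟩]
  have hf : Function.Injective f := by
    intro i j e
    fin_cases i <;> fin_cases j <;> first | rfl | (exfalso; simp [f, Subtype.ext_iff] at e; tauto)
  have := Nat.card_le_card_of_injective f hf
  rw [Nat.card_fin, h.card] at this
  omega

end Hyp

/-- The preimage of the fixed points of `t` on `T/V`. -/
def upre {V : Subgroup T} {t r : T ≃* T} (h : Hyp V t r) : Subgroup T where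
  carrier := {x | x⁻¹ * t x ∈ V}
  one_mem' := by simp
  mul_mem' := fun {a b} ha hb => by
    simp only [Set.mem_ofPred_eq] at *
    have e : (a * b)⁻¹ * t (a * b) = (a⁻¹ * t a) * (b⁻¹ * t b) := by
      rw [map_mul, mul_inv_rev]
      calc b⁻¹ * a⁻¹ * (t a * t b) = b⁻¹ * (a⁻¹ * t a) * t b := by group
        _ = (a⁻¹ * t a) * b⁻¹ * t b := by
          rw [Subgroup.mem_center_iff.1 (h.cent ha) b⁻¹]
        _ = _ := by group
    rw [e]
    exact V.mul_mem ha hb
  inv_mem' := fun {a} ha => by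
    simp only [Set.mem_ofPred_eq, map_inv, inv_inv] at *
    have e : a * (t a)⁻¹ = (a⁻¹ * t a)⁻¹ := by
      have hc := Subgroup.mem_center_iff.1 ((Subgroup.center T).inv_mem (h.cent ha)) a
      calc a * (t a)⁻¹ = a * (a⁻¹ * t a)⁻¹ * a⁻¹ := by group
        _ = (a⁻¹ * t a)⁻¹ * a * a⁻¹ := by rw [hc]
        _ = _ := by group
    rw [e]
    exact V.inv_mem ha

namespace Hyp

variable [Finite T] {V : Subgroup T} {t r : T ≃* T} (h : Hyp V t r)
include h

theorem V_le_upre : V ≤ upre h := fun v hv => by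
  show v⁻¹ * t v ∈ V
  rw [(h.fix v).2 hv, inv_mul_cancel]
  exact V.one_mem

theorem r_upre {u : T} (hu : u ∈ upre h) : r u ∈ upre h := by
  show (r u)⁻¹ * t (r u) ∈ V
  rw [h.comm, ← map_inv, ← map_mul]
  exact h.r_mem hu

theorem upre_cases {u : T} (hu : u ∈ upre h) (huV : u ∉ V) {z : T} (hz : z ∈ upre h) :
    z ∈ V ∨ u⁻¹ * z ∈ V ∨ (r u)⁻¹ * z ∈ V ∨ (u * r u)⁻¹ * z ∈ V := by
  have key : ∀ {a : T}, a ∈ upre h → a⁻¹ * t a = z⁻¹ * t z → a⁻¹ * z ∈ V := by
    intro a _ e
    rw [← h.fix, map_mul, map_inv]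
    have e1 : t a = a * (z⁻¹ * t z) := by rw [← e]; group
    rw [e1, mul_inv_rev]
    calc (z⁻¹ * t z)⁻¹ * a⁻¹ * t z = a⁻¹ * t z * (z⁻¹ * t z)⁻¹ := by
          rw [h.central (V.inv_mem hz) (a⁻¹ * t z), mul_assoc]
      _ = a⁻¹ * z := by group
  have hv : u⁻¹ * t u ∈ V := hu
  have hv1 : u⁻¹ * t u ≠ 1 := fun e => huV ((h.fix u).1 (inv_mul_eq_one.1 e).symm)
  have er : (r u)⁻¹ * t (r u) = r (u⁻¹ * t u) := by rw [h.comm, map_mul, map_inv]
  rcases h.V_cases hv hv1 (show z⁻¹ * t z ∈ V from hz) with e | e | e | e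
  · exact Or.inl ((h.fix z).1 (inv_mul_eq_one.1 e).symm)
  · exact Or.inr (Or.inl (key hu e.symm))
  · exact Or.inr (Or.inr (Or.inl (key (h.r_upre hu) (er.trans e.symm))))
  · refine Or.inr (Or.inr (Or.inr (key ((upre h).mul_mem hu (h.r_upre hu)) ?_)))
    rw [e, ← er, map_mul, mul_inv_rev]
    calc (r u)⁻¹ * u⁻¹ * (t u * t (r u)) = (r u)⁻¹ * (u⁻¹ * t u) * t (r u) := by group
      _ = (u⁻¹ * t u) * (r u)⁻¹ * t (r u) := by rw [h.central hv (r u)⁻¹]
      _ = _ := by group

variable [V.Normal]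

/-- The induced involution. -/
noncomputable def tBar : (T ⧸ V) ≃* (T ⧸ V) :=
  QuotientGroup.congr V V t (by
    ext x
    constructor
    · rintro ⟨y, hy, rfl⟩
      exact (show t y ∈ V by rw [(h.fix y).2 hy]; exact hy)
    · intro hx
      exact ⟨x, hx, (h.fix x).2 hx⟩)

/-- The induced automorphism of order three. -/
noncomputable def rBar : (T ⧸ V) ≃* (T ⧸ V) :=
  QuotientGroup.congr V V r (by
    ext x
    constructor
    · rintro ⟨y, hy, rfl⟩
      exact h.r_mem hy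
    · intro hx
      exact ⟨r (r x), h.r_mem (h.r_mem hx), h.rrr x⟩)

theorem tBar_mk (x : T) : h.tBar (QuotientGroup.mk x) = QuotientGroup.mk (t x) := rfl

theorem rBar_mk (x : T) : h.rBar (QuotientGroup.mk x) = QuotientGroup.mk (r x) := rfl

theorem mk_mem_map {x : T} :
    (QuotientGroup.mk x : T ⧸ V) ∈ (upre h).map (QuotientGroup.mk' V) ↔ x ∈ upre h := by
  constructor
  · rintro ⟨y, hy, e⟩
    have : y⁻¹ * x ∈ V := QuotientGroup.eq.1 e
    have h2 := (upre h).mul_mem hy (h.V_le_upre this)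
    rwa [mul_inv_cancel_left] at h2
  · exact fun hx => ⟨x, hx, rfl⟩

theorem exists_upre (hne : V ≠ ⊤) : ∃ u ∈ upre h, u ∉ V := by
  haveI : Fact (Nat.Prime 2) := ⟨Nat.prime_two⟩
  by_contra hc
  push Not at hc
  have hfpf : MonoidHom.FixedPointFree h.tBar := by
    intro q hq
    obtain ⟨x, rfl⟩ := QuotientGroup.mk_surjective q
    exact (QuotientGroup.eq_one_iff x).2 (hc x (QuotientGroup.eq.1 ((h.tBar_mk x).symm.trans hq).symm))
  have hodd := hfpf.odd_card_of_involutive (fun q => by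
    obtain ⟨x, rfl⟩ := QuotientGroup.mk_surjective q
    rw [h.tBar_mk, h.tBar_mk, h.tt])
  obtain ⟨k, hk⟩ := IsPGroup.iff_card.1 (h.two.to_quotient V)
  rcases k with _ | k
  · exact hne (Subgroup.index_eq_one.1 (by simpa [Subgroup.index] using hk))
  · rw [hk, pow_succ] at hodd
    exact Nat.not_even_iff_odd.2 hodd ⟨2 ^ k, by ring⟩

/-- The hypotheses pass to the quotient. -/
theorem quot (hne : V ≠ ⊤) : Hyp ((upre h).map (QuotientGroup.mk' V)) h.tBar h.rBar := by
  haveI : Fact (Nat.Prime 2) := ⟨Nat.prime_two⟩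
  let π : T →* T ⧸ V := QuotientGroup.mk' V
  have hmem : ∀ x : T, h.tBar (π x) = π x ↔ x ∈ upre h := fun x => by
    show QuotientGroup.mk (t x) = (QuotientGroup.mk x : T ⧸ V) ↔ _
    rw [eq_comm, QuotientGroup.eq]
    rfl
  have hcases : ∀ {u : T}, u ∈ upre h → u ∉ V → ∀ {z : T}, z ∈ upre h →
      π z = 1 ∨ π z = π u ∨ π z = π (r u) ∨ π z = π u * π (r u) := by
    intro u hu huV z hz
    rw [← map_mul]
    rcases h.upre_cases hu huV hz with e | e | e | e
    · exact Or.inl ((QuotientGroup.eq_one_iff z).2 e)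
    · exact Or.inr (Or.inl (QuotientGroup.eq.2 e).symm)
    · exact Or.inr (Or.inr (Or.inl (QuotientGroup.eq.2 e).symm))
    · exact Or.inr (Or.inr (Or.inr (QuotientGroup.eq.2 e).symm))
  have hfp : ∀ u ∈ upre h, π (r u) = π u → u ∈ V := by
    intro u hu e
    have hd : (r u)⁻¹ * u ∈ V := QuotientGroup.eq.1 e
    have hv : u⁻¹ * t u ∈ V := hu
    have hu2 : u = r u * ((r u)⁻¹ * u) := (mul_inv_cancel_left _ _).symm
    have e1 : r (u⁻¹ * t u) = u⁻¹ * t u := by
      have h3 : t u = t (r u) * ((r u)⁻¹ * u) := by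
        conv_lhs => rw [hu2]
        rw [map_mul t, (h.fix _).2 hd]
      have hrv : r (u⁻¹ * t u) = (r u)⁻¹ * t (r u) := by rw [map_mul, map_inv, h.comm]
      rw [hrv]
      calc (r u)⁻¹ * t (r u)
          = ((r u)⁻¹ * t (r u)) * ((r u)⁻¹ * u) * ((r u)⁻¹ * u)⁻¹ := (mul_inv_cancel_right _ _).symm
        _ = ((r u)⁻¹ * u)⁻¹ * (((r u)⁻¹ * t (r u)) * ((r u)⁻¹ * u)) :=
            (h.central (V.inv_mem hd) _)
        _ = u⁻¹ * (t (r u) * ((r u)⁻¹ * u)) := by group
        _ = u⁻¹ * t u := by rw [← h3]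
    exact (h.fix u).1 (inv_mul_eq_one.1 (h.fpfV _ hv e1)).symm
  refine ⟨h.two.to_quotient V, ?_, ?_, ?_, ?_, ?_, ?_, ?_, ?_⟩
  · -- the fixed points meet the centre
    haveI : Nontrivial (T ⧸ V) := by
      obtain ⟨u, hu, huV⟩ := h.exists_upre hne
      exact ⟨⟨π u, 1, fun e => huV ((QuotientGroup.eq_one_iff u).1 e)⟩⟩
    have hZ : Nontrivial (Subgroup.center (T ⧸ V)) := (h.two.to_quotient V).center_nontrivial
    let Z₀ : Subgroup T := (Subgroup.center (T ⧸ V)).comap π
    have hstab : ∀ (e : (T ⧸ V) ≃* (T ⧸ V)) (q : T ⧸ V),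
        q ∈ Subgroup.center (T ⧸ V) → e q ∈ Subgroup.center (T ⧸ V) := by
      intro e q hq
      rw [Subgroup.mem_center_iff] at hq ⊢
      intro g
      obtain ⟨g, rfl⟩ := e.surjective g
      rw [← map_mul, hq g, map_mul]
    have hfix : ∃ q ∈ Subgroup.center (T ⧸ V), q ≠ 1 ∧ h.tBar q = q := by
      by_contra hc
      push Not at hc
      let f : Subgroup.center (T ⧸ V) →* Subgroup.center (T ⧸ V) :=
        { toFun := fun x => ⟨h.tBar x, hstab _ _ x.2⟩
          map_one' := Subtype.ext (map_one h.tBar)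
          map_mul' := fun a b => Subtype.ext (map_mul h.tBar (a : T ⧸ V) b) }
      have hf : MonoidHom.FixedPointFree f := fun g hg => by
        by_contra hg1
        exact hc g g.2 (fun e => hg1 (Subtype.ext e)) (congrArg Subtype.val hg)
      have hodd := hf.odd_card_of_involutive (fun g => Subtype.ext (by
        obtain ⟨x, hx⟩ := QuotientGroup.mk_surjective (g : T ⧸ V)
        show h.tBar (h.tBar (g : T ⧸ V)) = g
        rw [← hx, h.tBar_mk, h.tBar_mk, h.tt]))
      obtain ⟨k, hk⟩ := IsPGroup.iff_card.1 ((h.two.to_quotient V).to_subgroup (Subgroup.center (T ⧸ V)))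
      rcases k with _ | k
      · exact absurd (Subgroup.card_eq_one.1 (by simpa using hk))
          ((Subgroup.nontrivial_iff_ne_bot _).1 hZ)
      · rw [hk, pow_succ] at hodd
        exact Nat.not_even_iff_odd.2 hodd ⟨2 ^ k, by ring⟩
    obtain ⟨q, hq, hq1, hqf⟩ := hfix
    obtain ⟨u, rfl⟩ := QuotientGroup.mk_surjective q
    have hu : u ∈ upre h := (hmem u).1 hqf
    have hru : π (r u) ∈ Subgroup.center (T ⧸ V) := hstab h.rBar _ hq
    rintro _ ⟨z, hz, rfl⟩
    rcases hcases hu (fun e => hq1 ((QuotientGroup.eq_one_iff u).2 e)) hz with e | e | e | e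
    · rw [e]; exact Subgroup.one_mem _
    · rw [e]; exact hq
    · rw [e]; exact hru
    · rw [e]; exact Subgroup.mul_mem _ hq hru
  · obtain ⟨u, hu, huV⟩ := h.exists_upre hne
    have h1 : ∀ {z : T}, π z = 1 → z ∈ V := fun {z} e => (QuotientGroup.eq_one_iff z).1 e
    refine card_four (a := π u) (b := π (r u)) ⟨u, hu, rfl⟩ ⟨r u, h.r_upre hu, rfl⟩
      (fun e => huV (h1 e)) (fun e => huV ?_) (fun e => huV (hfp u hu e.symm)) (fun e => huV ?_) ?_
    · have := h.r_mem (h.r_mem (h1 e))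
      rwa [h.rrr] at this
    · rw [← map_mul] at e
      have := h.r_mem (h1 e)
      rw [map_mul, h.rr_eq, mul_inv_rev, mul_inv_cancel_left] at this
      simpa using V.inv_mem this
    · rintro _ ⟨z, hz, rfl⟩
      exact hcases hu huV hz
  · rintro _ ⟨u, hu, rfl⟩
    rw [← map_mul]
    refine (QuotientGroup.eq_one_iff _).2 ((h.fix _).1 ?_)
    have hv : u⁻¹ * t u ∈ V := hu
    have e1 : t u = u * (u⁻¹ * t u) := (mul_inv_cancel_left u _).symm
    rw [map_mul, e1]
    calc u * (u⁻¹ * t u) * (u * (u⁻¹ * t u))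
        = u * (u * (u⁻¹ * t u)) * (u⁻¹ * t u) := by
          rw [mul_assoc u, ← h.central hv (u * (u⁻¹ * t u)), ← mul_assoc]
      _ = u * u * ((u⁻¹ * t u) * (u⁻¹ * t u)) := by group
      _ = u * u := by rw [h.exp _ hv, mul_one]
  · intro q
    obtain ⟨x, rfl⟩ := QuotientGroup.mk_surjective q
    rw [h.tBar_mk, h.tBar_mk, h.tt]
  · intro q
    obtain ⟨x, rfl⟩ := QuotientGroup.mk_surjective q
    exact (hmem x).trans h.mk_mem_map.symm
  · intro q
    obtain ⟨x, rfl⟩ := QuotientGroup.mk_surjective q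
    rw [h.rBar_mk, h.rBar_mk, h.rBar_mk, h.rrr]
  · intro q
    obtain ⟨x, rfl⟩ := QuotientGroup.mk_surjective q
    rw [h.rBar_mk, h.tBar_mk, h.tBar_mk, h.rBar_mk, h.comm]
  · rintro _ ⟨u, hu, rfl⟩ e
    exact (QuotientGroup.eq_one_iff u).2 (hfp u hu e)

end Hyp

end Cfsg.Agent.Lib.LAEven56.CentralFour
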