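/-
The three shapes of a two-group in the setting of a central four-group of fixed points.
-/
import Mathlib
import Cfsg.Agent.Lib.LAEven56.CentralFour.Basic

set_option autoImplicit false
set_option linter.style.haveILetI false
set_option linter.unusedSectionVars false

namespace Cfsg.Agent.Lib.LAEven56.CentralFour

open scoped commutatorElement

universe u

/-- Elementary of order sixteen. -/
def CaseA (T : Type*) [Group T] : Prop := Nat.card T = 16 ∧ ∀ x : T, x * x = 1

/-- Homocyclic of rank two, generated by an orbit of `r`. -/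
def CaseB {T : Type*} [Group T] (r : T ≃* T) : Prop :=
  ∃ (x : T) (n : ℕ), 1 ≤ n ∧ (∀ z, ∃ i j : ℤ, z = x ^ i * r x ^ j) ∧ Nat.card T = 4 ^ n ∧
    x ^ (2 ^ n : ℕ) = 1

/-- Special of order sixty-four. -/
def CaseC {T : Type*} [Group T] (V : Subgroup T) : Prop :=
  Nat.card T = 64 ∧ (∃ a b : T, a * b ≠ b * a) ∧ ∀ x : T, x * x ∈ V

/-- The relations of the special groups. -/
structure Rel {S : Type*} [Group S] (e : Bool) (g1 g2 g3 g4 z1 z2 : S) : Prop where
  z1g : z1 * g1 = g1 * z1 ∧ z1 * g2 = g2 * z1 ∧ z1 * g3 = g3 * z1 ∧ z1 * g4 = g4 * z1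
  z2g : z2 * g1 = g1 * z2 ∧ z2 * g2 = g2 * z2 ∧ z2 * g3 = g3 * z2 ∧ z2 * g4 = g4 * z2
  zz : z1 * z2 = z2 * z1
  z11 : z1 * z1 = 1
  z22 : z2 * z2 = 1
  s1 : g1 * g1 = z1
  s2 : g2 * g2 = z2
  s3 : g3 * g3 = cond e z2 1
  s4 : g4 * g4 = cond e (z1 * z2) 1
  c12 : g1 * g2 = g2 * g1
  c34 : g3 * g4 = g4 * g3
  c13 : g1 * g3 = z1 * (g3 * g1)
  c24 : g2 * g4 = z2 * (g4 * g2)
  c14 : g1 * g4 = z1 * z2 * (g4 * g1)
  c23 : g2 * g3 = z1 * z2 * (g3 * g2)

/-- A presented special group. -/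
def Pres (T : Type*) [Group T] (e : Bool) : Prop :=
  ∃ g1 g2 g3 g4 z1 z2 : T, Rel e g1 g2 g3 g4 z1 z2 ∧ Subgroup.closure {g1, g2, g3, g4} = ⊤ ∧
    (∀ n : T, (∀ w, n * w = w * n) → n = 1 ∨ n = z1 ∨ n = z2 ∨ n = z1 * z2) ∧
    ∀ a b : T, ⁅a, b⁆ = 1 ∨ ⁅a, b⁆ = z1 ∨ ⁅a, b⁆ = z2 ∨ ⁅a, b⁆ = z1 * z2

theorem mem_of_inv_mul_mem {G : Type*} [Group G] {K : Subgroup G} {a z : G} (ha : a ∈ K)
    (h : a⁻¹ * z ∈ K) : z ∈ K := by
  have := K.mul_mem ha h
  rwa [mul_inv_cancel_left] at this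

namespace Hyp

variable {T : Type u} [Group T] [Finite T] {V : Subgroup T} {t r : T ≃* T} (h : Hyp V t r)
include h

theorem normal : V.Normal := ⟨fun v hv g => by rw [h.central hv g, mul_inv_cancel_right]; exact hv⟩

theorem cl (a b c : T) : ⁅a * b, c⁆ = ⁅a, c⁆ * ⁅b, c⁆ := by
  rw [Fg6.OrderThreeAut.comm_left_mul, Fg6.OrderThreeAut.conj_central (h.comm_center b c)]
  exact Subgroup.mem_center_iff.1 (h.comm_center a c) _

theorem cr (a b c : T) : ⁅a, b * c⁆ = ⁅a, b⁆ * ⁅a, c⁆ := by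
  rw [Fg6.OrderThreeAut.comm_right_mul, Fg6.OrderThreeAut.conj_central (h.comm_center a c)]

theorem comm_r_self (x : T) : ⁅x, r x⁆ = 1 := commutatorElement_eq_one_iff_mul_comm.2 (h.comm_self x)

theorem table (x y : T) (hc : ⁅x, y⁆ * ⁅x, y⁆ = 1) :
    ⁅r x, r y⁆ = r ⁅x, y⁆ ∧ ⁅x, r y⁆ = ⁅x, y⁆ * r ⁅x, y⁆ ∧ ⁅r x, y⁆ = ⁅x, y⁆ * r ⁅x, y⁆ := by
  have e1 : ⁅r x, r y⁆ = r ⁅x, y⁆ := (map_commutatorElement r x y).symm
  have hd : ⁅x, r y⁆ = ⁅r x, y⁆ := by
    have := h.comm_r_self (x * y)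
    rw [map_mul, h.cl, h.cr, h.cr, h.comm_r_self, h.comm_r_self, one_mul, mul_one] at this
    rw [eq_inv_of_mul_eq_one_left this, commutatorElement_inv]
  set c := ⁅x, y⁆ with hcdef
  set d := ⁅r x, y⁆ with hddef
  have hzc : ∀ w, w * r c = r c * w := fun w => by
    rw [← e1]; exact Subgroup.mem_center_iff.1 (h.comm_center _ _) w
  have hzd : ∀ w, w * d = d * w := fun w => Subgroup.mem_center_iff.1 (h.comm_center _ _) w
  have hci : c⁻¹ = c := inv_eq_of_mul_eq_one_right hc
  have hrci : (r c)⁻¹ = r c := by rw [← map_inv, hci]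
  have hrd : r d = (d * r c)⁻¹ := by
    have hinv : ∀ a b : T, ⁅a, b⁻¹⁆ = ⁅a, b⁆⁻¹ := fun a b => by
      refine eq_inv_of_mul_eq_one_left ?_
      rw [← h.cr, inv_mul_cancel, commutatorElement_one_right]
    have : r d = ⁅r x, r (r y)⁆ := by
      rw [← hd, map_commutatorElement r x (r y)]
    rw [this, h.rr_eq y, hinv, h.cr, e1]
  have hrrd : r (r d) = d * c := by
    rw [hrd, map_inv, map_mul, hrd, mul_inv_rev, inv_inv, h.rr_eq c, inv_inv, ← mul_assoc, hzd (c * r c), mul_assoc d,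
      mul_assoc c, ← map_mul, hc, map_one, mul_one]
  have h3 := h.rel d
  rw [hrrd, hrd, mul_inv_rev, hrci] at h3
  have h4 : r c * (d * c) = 1 := by
    rw [← mul_assoc d (r c), hzc d, mul_inv_cancel_right] at h3
    exact h3
  have hdc : d = c * r c := by
    have := eq_inv_of_mul_eq_one_right h4
    rw [hrci] at this
    calc d = d * c * c := by rw [mul_assoc, hc, mul_one]
      _ = r c * c := by rw [this]
      _ = c * r c := (hzc c).symm
  exact ⟨e1, hd.trans hdc, hdc⟩

variable [V.Normal]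

theorem card_eq_four_mul : Nat.card T = 4 * Nat.card (T ⧸ V) := by
  rw [← Subgroup.card_mul_index V, h.card, Subgroup.index]

theorem card_upre (hne : V ≠ ⊤) : Nat.card (upre h) = 16 := by
  let π : T →* T ⧸ V := QuotientGroup.mk' V
  have hq := (h.quot hne).card
  have hcm : ((upre h).map π).comap π = upre h := by
    ext x; exact h.mk_mem_map
  have h1 := Subgroup.card_mul_index (upre h)
  have h2 := Subgroup.card_mul_index ((upre h).map π)
  rw [← hcm, Subgroup.index_comap_of_surjective _ (QuotientGroup.mk'_surjective V), hcm,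
    h.card_eq_four_mul, ← h2, hq] at h1
  have hi : ((upre h).map π).index ≠ 0 := Subgroup.index_ne_zero_of_finite
  exact Nat.eq_of_mul_eq_mul_right (Nat.pos_of_ne_zero hi) (by rw [h1]; ring)

theorem fpf_mod {x : T} (hne : V ≠ ⊤) (hx : x⁻¹ * r x ∈ V) : x ∈ V := by
  have := (h.quot hne).fpf (x := QuotientGroup.mk x) (by
    rw [h.rBar_mk]; exact (QuotientGroup.eq.2 hx).symm)
  exact (QuotientGroup.eq_one_iff x).1 this

theorem not_mem_r {U : Subgroup T} (hU : ∀ u ∈ U, r u ∈ U) {y : T} (hy : y ∉ U) :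
    r y ∉ U ∧ y * r y ∉ U := by
  refine ⟨fun e => hy ?_, fun e => hy ?_⟩
  · have := hU _ (hU _ e)
    rwa [h.rrr] at this
  · have := hU _ (U.inv_mem e)
    rwa [← h.rr_eq, h.rrr] at this

/-- From a special group of order sixty-four to its presentation. -/
theorem pres_orbit (hC : CaseC V) : ∃ (e : Bool) (g1 g3 z1 z2 : T),
    Rel e g1 (r g1) g3 (r g3) z1 z2 ∧ Subgroup.closure {g1, r g1, g3, r g3} = ⊤ ∧
    (∀ n : T, (∀ w, n * w = w * n) → n = 1 ∨ n = z1 ∨ n = z2 ∨ n = z1 * z2) ∧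
    ∀ a b : T, ⁅a, b⁆ = 1 ∨ ⁅a, b⁆ = z1 ∨ ⁅a, b⁆ = z2 ∨ ⁅a, b⁆ = z1 * z2 := by
  obtain ⟨hcard, hnab, hsq⟩ := hC
  have hne : V ≠ ⊤ := by
    intro e
    have := h.card
    rw [e, Subgroup.card_top, hcard] at this
    omega
  let U := upre h
  have hUcard : Nat.card U = 16 := h.card_upre hne
  obtain ⟨y₀, hy₀⟩ : ∃ y, y ∉ U := by
    by_contra hc
    push Not at hc
    have : U = ⊤ := top_le_iff.1 fun x _ => hc x
    rw [this, Subgroup.card_top, hcard] at hUcard
    omega
  have hcomm : ∀ a b : T, ⁅a, b⁆ ∈ V := fun a b => by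
    have e : ⁅a, b⁆ = a * a * ((a⁻¹ * b) * (a⁻¹ * b)) * (b * b)⁻¹ := by
      rw [commutatorElement_def]; group
    rw [e]
    exact V.mul_mem (V.mul_mem (hsq a) (hsq _)) (V.inv_mem (hsq b))
  have hgood : ∀ y, y ∉ U → (y⁻¹ * t y ∈ U ∧ y⁻¹ * t y ∉ V) ∧
      ⁅y⁻¹ * t y, y⁆ = (y⁻¹ * t y) * (y⁻¹ * t y) := by
    intro y hy
    have hxU : y⁻¹ * t y ∈ U := by
      show (y⁻¹ * t y)⁻¹ * t (y⁻¹ * t y) ∈ V
      rw [map_mul, map_inv, h.tt, mul_inv_rev, inv_inv]
      have e : (t y)⁻¹ * y * ((t y)⁻¹ * y) = ((t y)⁻¹ * y) * ((t y)⁻¹ * y) := rfl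
      rw [e]
      exact hsq _
    refine ⟨⟨hxU, hy⟩, ?_⟩
    set x := y⁻¹ * t y with hx
    have e1 : t y = y * x := (mul_inv_cancel_left y _).symm
    have e2 : y * x * (y * x) = y * y := by
      rw [← e1, ← map_mul, (h.fix _).2 (hsq y)]
    have e3 : x * y * x = y := by
      have := congrArg (fun w => y⁻¹ * w) e2
      simpa [mul_assoc] using this
    calc ⁅x, y⁆ = x * y * x * (x * x)⁻¹ * y⁻¹ := by rw [commutatorElement_def]; group
      _ = y * (x * x)⁻¹ * y⁻¹ := by rw [e3]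
      _ = (x * x)⁻¹ := by rw [h.central (V.inv_mem (hsq x)) y, mul_inv_cancel_right]
      _ = x * x := inv_eq_of_mul_eq_one_right (h.exp _ (hsq x))
  -- generation
  have hgen : ∀ y, y ∉ U →
      Subgroup.closure {y⁻¹ * t y, r (y⁻¹ * t y), y, r y} = ⊤ ∧ ⁅y⁻¹ * t y, y⁆ ≠ 1 := by
    intro y hy
    obtain ⟨⟨hxU, hxV⟩, hc⟩ := hgood y hy
    set x := y⁻¹ * t y with hx
    have hM : (∀ K : Subgroup T, V ≤ K → x ∈ K → r x ∈ K → y ∈ K → r y ∈ K → K = ⊤) := by
      intro K hVK hxK hrxK hyK hryK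
      have hUK : ∀ u ∈ U, u ∈ K := by
        intro u hu
        rcases h.upre_cases hxU hxV hu with e | e | e | e
        · exact hVK e
        · exact mem_of_inv_mul_mem hxK (hVK e)
        · exact mem_of_inv_mul_mem hrxK (hVK e)
        · exact mem_of_inv_mul_mem (K.mul_mem hxK hrxK) (hVK e)
      obtain ⟨hy2, hy3⟩ := h.not_mem_r (U := U) (fun u hu => h.r_upre hu) hy
      have hy4 : y⁻¹ * r y ∉ U := fun e => by
        haveI := (h.quot hne).normal
        have h2 := (h.quot hne).fpf_mod (x := QuotientGroup.mk y)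
          (fun ht => by
            have := (h.quot hne).card
            have hc4 := h.card_eq_four_mul
            rw [ht, Subgroup.card_top] at this
            omega) ⟨y⁻¹ * r y, e, rfl⟩
        exact hy (h.mk_mem_map.1 h2)
      have hsep : ∀ a b : T, a ∈ U → y * a = y * b → b ∈ U := fun a b ha e => by
        rw [← mul_left_cancel e]; exact ha
      let f : Fin 4 × U → K := fun p => ⟨(![1, y, r y, y * r y] p.1) * p.2, K.mul_mem
        (by
          obtain ⟨i, _⟩ := p
          fin_cases i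
          exacts [K.one_mem, hyK, hryK, K.mul_mem hyK hryK]) (hUK _ p.2.2)⟩
      have key : ∀ a b u v : T, u ∈ U → v ∈ U → a * u = b * v → a⁻¹ * b ∈ U := by
        intro a b u v hu hv e
        have : a⁻¹ * b = u * v⁻¹ := by
          rw [eq_mul_inv_iff_mul_eq, mul_assoc, ← e, inv_mul_cancel_left]
        rw [this]; exact U.mul_mem hu (U.inv_mem hv)
      have hdist : ∀ i j : Fin 4,
          (![1, y, r y, y * r y] i : T)⁻¹ * ![1, y, r y, y * r y] j ∈ U → i = j := by
        have hn1 : y⁻¹ * 1 ∉ U := fun e => hy (by simpa using e)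
        have hn2 : (r y)⁻¹ * 1 ∉ U := fun e => hy2 (by simpa using e)
        have hn3 : (y * r y)⁻¹ * 1 ∉ U := fun e => hy3 (by simpa using U.inv_mem e)
        have hn4 : y⁻¹ * (y * r y) ∉ U := fun e => hy2 (by simpa using e)
        have hn5 : (r y)⁻¹ * (y * r y) ∉ U := fun e => by
          rw [h.comm_self, inv_mul_cancel_left] at e; exact hy e
        have sym : ∀ {a b : T}, a⁻¹ * b ∉ U → b⁻¹ * a ∉ U := fun {a b} hn e =>
          hn (by simpa using U.inv_mem e)
        intro i j e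
        fin_cases i <;> fin_cases j <;> first
          | rfl
          | exact absurd e hn1
          | exact absurd e hn2
          | exact absurd e hn3
          | exact absurd e hn4
          | exact absurd e hn5
          | exact absurd e hy4
          | exact absurd e (sym hn1)
          | exact absurd e (sym hn2)
          | exact absurd e (sym hn3)
          | exact absurd e (sym hn4)
          | exact absurd e (sym hn5)
          | exact absurd e (sym hy4)
      have hinj : Function.Injective f := by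
        rintro ⟨i, u⟩ ⟨j, v⟩ e
        have e' : ![1, y, r y, y * r y] i * (u : T) = ![1, y, r y, y * r y] j * (v : T) :=
          congrArg Subtype.val e
        obtain rfl := hdist i j (key _ _ _ _ u.2 v.2 e')
        exact Prod.ext rfl (Subtype.ext (mul_left_cancel e'))
      have := Nat.card_le_card_of_injective f hinj
      rw [Nat.card_prod, Nat.card_fin, hUcard] at this
      exact Subgroup.eq_top_of_le_card _ (by rw [hcard]; omega)
    have hc1 : ⁅x, y⁆ ≠ 1 := by
      intro e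
      obtain ⟨a, b, hab⟩ := hnab
      apply hab
      obtain ⟨k1, k2, k3⟩ := h.table x y (by rw [e, one_mul])
      rw [e, map_one, one_mul] at k2 k3
      rw [e, map_one] at k1
      let Z : Subgroup T := Subgroup.center T
      have hzx : ∀ g : T, g = x ∨ g = r x ∨ g = y ∨ g = r y →
          ∀ g' : T, g' = x ∨ g' = r x ∨ g' = y ∨ g' = r y → ⁅g, g'⁆ = 1 := by
        have sw : ∀ {a b : T}, ⁅a, b⁆ = 1 → ⁅b, a⁆ = 1 := fun {a b} e => by
          rw [← commutatorElement_inv, e, inv_one]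
        rintro g (rfl | rfl | rfl | rfl) g' (rfl | rfl | rfl | rfl) <;>
          first
            | exact commutatorElement_self _
            | exact h.comm_r_self _
            | exact sw (h.comm_r_self _)
            | assumption
            | (refine sw ?_; assumption)
      let Cx : T → Subgroup T := fun g => Subgroup.centralizer {g}
      have hcent : ∀ g, g = x ∨ g = r x ∨ g = y ∨ g = r y → Cx g = ⊤ := by
        intro g hg
        have hm : ∀ g', g' = x ∨ g' = r x ∨ g' = y ∨ g' = r y → g' ∈ Cx g := fun g' hg' =>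
          Subgroup.mem_centralizer_singleton_iff.2
            (commutatorElement_eq_one_iff_mul_comm.1 (hzx g' hg' g hg))
        exact hM _ (fun v hv => Subgroup.mem_centralizer_singleton_iff.2 (h.central hv g).symm)
          (hm _ (Or.inl rfl)) (hm _ (Or.inr (Or.inl rfl))) (hm _ (Or.inr (Or.inr (Or.inl rfl))))
          (hm _ (Or.inr (Or.inr (Or.inr rfl))))
      have ha : Cx a = ⊤ := by
        have hm : ∀ g, g = x ∨ g = r x ∨ g = y ∨ g = r y → g ∈ Cx a := fun g hg =>
          Subgroup.mem_centralizer_singleton_iff.2 (Subgroup.mem_centralizer_singleton_iff.1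
            (show a ∈ Cx g by rw [hcent g hg]; exact Subgroup.mem_top a)).symm
        exact hM _ (fun v hv => Subgroup.mem_centralizer_singleton_iff.2 (h.central hv a).symm)
          (hm _ (Or.inl rfl)) (hm _ (Or.inr (Or.inl rfl))) (hm _ (Or.inr (Or.inr (Or.inl rfl))))
          (hm _ (Or.inr (Or.inr (Or.inr rfl))))
      exact (Subgroup.mem_centralizer_singleton_iff.1 (show b ∈ Cx a by rw [ha]; exact Subgroup.mem_top b)).symm
    refine ⟨hM _ (fun v hv => ?_) (Subgroup.subset_closure (by simp)) (Subgroup.subset_closure (by simp))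
      (Subgroup.subset_closure (by simp)) (Subgroup.subset_closure (by simp)), hc1⟩
    set K := Subgroup.closure ({x, r x, y, r y} : Set T)
    have hcK : ⁅x, y⁆ ∈ K := by
      rw [hc]; exact K.mul_mem (Subgroup.subset_closure (by simp)) (Subgroup.subset_closure (by simp))
    have hrcK : r ⁅x, y⁆ ∈ K := by
      rw [hc, map_mul]
      exact K.mul_mem (Subgroup.subset_closure (by simp)) (Subgroup.subset_closure (by simp))
    rcases h.V_cases (hcomm x y) hc1 hv with rfl | rfl | rfl | rfl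
    exacts [K.one_mem, hcK, hrcK, K.mul_mem hcK hrcK]
  -- choice of `y`
  obtain ⟨⟨hx₀U, hx₀V⟩, hc₀⟩ := hgood y₀ hy₀
  obtain ⟨-, hc₀1⟩ := hgen y₀ hy₀
  set x₀ := y₀⁻¹ * t y₀ with hx₀
  set c := ⁅x₀, y₀⁆ with hcdef
  have hcV : c ∈ V := hcomm x₀ y₀
  have hcc : c * c = 1 := h.exp c hcV
  have hrcV : r c ∈ V := h.r_mem hcV
  obtain ⟨k1, k2, k3⟩ := h.table x₀ y₀ hcc
  -- the square of `y * r x`
  have hy1 : y₀ * r x₀ ∉ U := fun e => hy₀ (by
    simpa using U.mul_mem e (U.inv_mem (h.r_upre hx₀U)))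
  have hsq1 : y₀ * r x₀ * (y₀ * r x₀) = y₀ * y₀ * c := by
    calc y₀ * r x₀ * (y₀ * r x₀) = y₀ * (⁅r x₀, y₀⁆ * (y₀ * r x₀)) * r x₀ := by
          rw [commutatorElement_def]; group
      _ = y₀ * y₀ * (r x₀ * r x₀) * ⁅r x₀, y₀⁆ := by
          rw [k3, ← h.central (V.mul_mem hcV hrcV) (y₀ * r x₀)]
          generalize hzdef : c * r c = z
          have hz : ∀ w, w * z = z * w := h.central (hzdef ▸ V.mul_mem hcV hrcV)
          simp only [mul_assoc]
          rw [hz (r x₀)]
      _ = y₀ * y₀ * r c * (c * r c) := by rw [k3, ← map_mul, ← hc₀]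
      _ = y₀ * y₀ * c := by
          rw [mul_assoc, h.central hrcV c, ← mul_assoc (r c), h.exp _ hrcV, one_mul]
  have hc1' : ⁅(y₀ * r x₀)⁻¹ * t (y₀ * r x₀), y₀ * r x₀⁆ = c := by
    have hd : (r x₀)⁻¹ * t (r x₀) ∈ V := h.r_upre hx₀U
    have hgr : (y₀ * r x₀)⁻¹ * t (y₀ * r x₀) = x₀ * ((r x₀)⁻¹ * t (r x₀)) := by
      have hx' : (r x₀)⁻¹ * x₀ = x₀ * (r x₀)⁻¹ := by
        rw [inv_mul_eq_iff_eq_mul, ← mul_assoc, ← h.comm_self, mul_inv_cancel_right]
      calc (y₀ * r x₀)⁻¹ * t (y₀ * r x₀) = (r x₀)⁻¹ * x₀ * t (r x₀) := by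
            rw [map_mul t y₀ (r x₀), mul_inv_rev, mul_assoc, ← mul_assoc y₀⁻¹, ← hx₀, ← mul_assoc]
        _ = _ := by rw [hx', mul_assoc]
    have hz : ∀ w : T, ⁅(r x₀)⁻¹ * t (r x₀), w⁆ = 1 := fun w =>
      commutatorElement_eq_one_iff_mul_comm.2 (h.central hd w).symm
    rw [hgr, h.cl, hz, mul_one, h.cr, h.comm_r_self, mul_one]
  have hchoice : ∃ (y : T) (e : Bool), y ∉ U ∧ ⁅y⁻¹ * t y, y⁆ = c ∧ y * y = cond e (r c) 1 := by
    rcases h.V_cases hcV hc₀1 (hsq y₀) with e | e | e | e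
    · exact ⟨y₀, false, hy₀, rfl, e⟩
    · exact ⟨_, false, hy1, hc1', by rw [hsq1, e]; exact hcc⟩
    · exact ⟨y₀, true, hy₀, rfl, e⟩
    · refine ⟨_, true, hy1, hc1', ?_⟩
      rw [hsq1, e]
      show c * r c * c = r c
      rw [mul_assoc, h.central hcV (r c), ← mul_assoc, hcc, one_mul]
  obtain ⟨y, e, hy, hyc, hys⟩ := hchoice
  obtain ⟨⟨hxU, hxV⟩, hc⟩ := hgood y hy
  obtain ⟨hcl, -⟩ := hgen y hy
  set x := y⁻¹ * t y with hx
  obtain ⟨m1, m2, m3⟩ := h.table x y (by rw [hyc, hcc])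
  rw [hyc] at m1 m2 m3 hc
  have hswap : ∀ a b : T, a * b = ⁅a, b⁆ * (b * a) := fun a b => by
    rw [commutatorElement_def]; group
  have hzc : ∀ v ∈ V, ∀ g, v * g = g * v := fun v hv g => (h.central hv g).symm
  refine ⟨e, x, y, c, r c, ⟨?_, ?_, hzc c hcV _, hcc, h.exp _ hrcV, hc.symm, ?_, hys, ?_,
    h.comm_self x, h.comm_self y, ?_, ?_, ?_, ?_⟩, hcl, ?_, ?_⟩
  · exact ⟨hzc c hcV _, hzc c hcV _, hzc c hcV _, hzc c hcV _⟩
  · exact ⟨hzc _ hrcV _, hzc _ hrcV _, hzc _ hrcV _, hzc _ hrcV _⟩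
  · rw [← map_mul, ← hc]
  · rw [← map_mul, hys]
    cases e
    · exact map_one r
    · show r (r c) = c * r c
      rw [h.rr_eq, mul_inv_rev, inv_eq_of_mul_eq_one_right hcc,
        inv_eq_of_mul_eq_one_right (h.exp _ hrcV), h.central hcV (r c)]
  · conv_lhs => rw [hswap x y, hyc]
  · conv_lhs => rw [hswap (r x) (r y), m1]
  · conv_lhs => rw [hswap x (r y), m2]
  · conv_lhs => rw [hswap (r x) y, m3]
  · intro n hn
    refine h.V_cases hcV hc₀1 ?_
    by_contra hnV
    have hnc : n ∈ Subgroup.center T := Subgroup.mem_center_iff.2 fun w => (hn w).symm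
    have hstab : ∀ (f : T ≃* T) (z : T), z ∈ Subgroup.center T → f z ∈ Subgroup.center T := by
      intro f z hz
      rw [Subgroup.mem_center_iff] at hz ⊢
      intro g
      obtain ⟨g, rfl⟩ := f.surjective g
      rw [← map_mul, hz g, map_mul]
    obtain ⟨q, hq, hq1, hqU⟩ := (h.quot hne).exists_fixed
      (N := (Subgroup.center T).map (QuotientGroup.mk' V))
      (by rintro _ ⟨z, hz, rfl⟩; exact ⟨t z, hstab t z hz, rfl⟩)
      (fun e0 => hnV ((QuotientGroup.eq_one_iff n).1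
        ((Subgroup.eq_bot_iff_forall _).1 e0 _ ⟨n, hnc, rfl⟩)))
    obtain ⟨z, hz, rfl⟩ := hq
    have hzU : z ∈ U := h.mk_mem_map.1 hqU
    have hxZ : x ∈ Subgroup.center T := by
      rcases h.upre_cases hzU (fun e0 => hq1 ((QuotientGroup.eq_one_iff z).2 e0)) hxU with e0 | e0 | e0 | e0
      · exact absurd e0 hxV
      · exact mem_of_inv_mul_mem hz (h.cent e0)
      · exact mem_of_inv_mul_mem (hstab r z hz) (h.cent e0)
      · exact mem_of_inv_mul_mem (Subgroup.mul_mem _ hz (hstab r z hz)) (h.cent e0)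
    exact hc₀1 (hyc.symm.trans (commutatorElement_eq_one_iff_mul_comm.2
      (Subgroup.mem_center_iff.1 hxZ y).symm))
  · intro a b
    exact h.V_cases hcV hc₀1 (hcomm a b)

theorem pres_of_caseC (hC : CaseC V) : ∃ e, Pres T e := by
  obtain ⟨e, g1, g3, z1, z2, hh⟩ := h.pres_orbit hC
  exact ⟨e, g1, r g1, g3, r g3, z1, z2, hh⟩

theorem abelian_of_gen (x : T) (hgen : ∀ z, ∃ v ∈ V, ∃ i j : ℤ, z = v * (x ^ i * r x ^ j)) :
    ∀ a b : T, a * b = b * a := by
  intro a b
  have hc : Commute x (r x) := h.comm_self x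
  obtain ⟨v, hv, i, j, rfl⟩ := hgen a
  obtain ⟨w, hw, k, l, rfl⟩ := hgen b
  have e1 : Commute v (w * (x ^ k * r x ^ l)) := (h.central hv _).symm
  have e2 : Commute (x ^ i * r x ^ j) w := h.central hw _
  have e3 : Commute (x ^ i * r x ^ j) (x ^ k * r x ^ l) := by
    refine Commute.mul_left (Commute.mul_right ?_ ?_) (Commute.mul_right ?_ ?_)
    · exact Commute.zpow_zpow_self x i k
    · exact hc.zpow_zpow i l
    · exact (hc.zpow_zpow k j).symm
    · exact Commute.zpow_zpow_self (r x) j l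
  exact (e1.mul_left (e2.mul_right e3)).eq

/-- Excluded: the quotient is special. -/
theorem not_quot_caseC (hne : V ≠ ⊤) (hC : CaseC ((upre h).map (QuotientGroup.mk' V))) : False := by
  haveI : Fact (Nat.Prime 2) := ⟨Nat.prime_two⟩
  obtain ⟨hcard, ⟨qa, qb, hab⟩, hsq⟩ := hC
  let U := upre h
  let π : T →* T ⧸ V := QuotientGroup.mk' V
  have hU16 : Nat.card U = 16 := h.card_upre hne
  have hsqU : ∀ a : T, a * a ∈ U := fun a => h.mk_mem_map.1 (hsq (π a))
  have hcommU : ∀ a b : T, ⁅a, b⁆ ∈ U := fun a b => by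
    have e : ⁅a, b⁆ = a * a * ((a⁻¹ * b) * (a⁻¹ * b)) * (b * b)⁻¹ := by
      rw [commutatorElement_def]; group
    rw [e]
    exact U.mul_mem (U.mul_mem (hsqU a) (hsqU _)) (U.inv_mem (hsqU b))
  obtain ⟨a, rfl⟩ := QuotientGroup.mk_surjective qa
  obtain ⟨b, rfl⟩ := QuotientGroup.mk_surjective qb
  have hkV : ⁅a, b⁆ ∉ V := fun e => hab (by
    have := (QuotientGroup.eq_one_iff ⁅a, b⁆).2 e
    change π ⁅a, b⁆ = 1 at this
    rw [map_commutatorElement] at this
    exact commutatorElement_eq_one_iff_mul_comm.1 this)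
  set k := ⁅a, b⁆ with hk
  have hkZ : k ∈ Subgroup.center T := h.comm_center a b
  have hrkZ : r k ∈ Subgroup.center T := by
    rw [hk, map_commutatorElement]; exact h.comm_center _ _
  have hUZ : U ≤ Subgroup.center T := by
    intro z hz
    rcases h.upre_cases (hcommU a b) hkV hz with e | e | e | e
    · exact h.cent e
    · exact mem_of_inv_mul_mem hkZ (h.cent e)
    · exact mem_of_inv_mul_mem hrkZ (h.cent e)
    · exact mem_of_inv_mul_mem (Subgroup.mul_mem _ hkZ hrkZ) (h.cent e)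
  -- generators
  have hVne : (upre h).map π ≠ ⊤ := by
    intro e
    have h4 := (h.quot hne).card
    rw [e, Subgroup.card_top] at h4
    omega
  haveI := (h.quot hne).normal
  obtain ⟨e, q1, q3, z1, z2, -, hcl, -, -⟩ :=
    (h.quot hne).pres_orbit ⟨hcard, ⟨_, _, hab⟩, hsq⟩
  obtain ⟨x, rfl⟩ := QuotientGroup.mk_surjective q1
  obtain ⟨y, rfl⟩ := QuotientGroup.mk_surjective q3
  rw [h.rBar_mk, h.rBar_mk] at hcl
  have hgen : ∀ K : Subgroup T, V ≤ K → x ∈ K → r x ∈ K → y ∈ K → r y ∈ K → K = ⊤ := by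
    intro K hVK hxK hrxK hyK hryK
    have hle : Subgroup.closure
        ({QuotientGroup.mk x, QuotientGroup.mk (r x), QuotientGroup.mk y, QuotientGroup.mk (r y)} :
          Set (T ⧸ V)) ≤ K.map π := by
      rw [Subgroup.closure_le]
      rintro q (rfl | rfl | rfl | rfl)
      exacts [⟨x, hxK, rfl⟩, ⟨r x, hrxK, rfl⟩, ⟨y, hyK, rfl⟩, ⟨r y, hryK, rfl⟩]
    rw [hcl] at hle
    refine top_le_iff.1 fun w _ => ?_
    obtain ⟨w', hw', e'⟩ := hle (Subgroup.mem_top (π w))
    exact mem_of_inv_mul_mem hw' (hVK (QuotientGroup.eq.1 e'))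
  set c := ⁅x, y⁆ with hc
  have hcc : c * c = 1 := by
    rw [hc, ← h.cl]
    exact commutatorElement_eq_one_iff_mul_comm.2 (Subgroup.mem_center_iff.1 (hUZ (hsqU x)) y).symm
  obtain ⟨k1, k2, k3⟩ := h.table x y hcc
  rw [← hc] at k1 k2 k3
  have hrc : r c * r c = 1 := by rw [← map_mul, hcc, map_one]
  have hcr : c * r c = r c * c :=
    (Subgroup.mem_center_iff.1 (h.comm_center x y) (r c)).symm
  let D : Subgroup T :=
    { carrier := {1, c, r c, c * r c}
      one_mem' := Or.inl rfl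
      mul_mem' := by
        have q1 : r c * c = c * r c := hcr.symm
        have q2 : ∀ w, r c * (c * w) = c * (r c * w) := fun w => by rw [← mul_assoc, q1, mul_assoc]
        have q3 : ∀ w, c * (c * w) = w := fun w => by rw [← mul_assoc, hcc, one_mul]
        rintro a b (rfl | rfl | rfl | rfl) (rfl | rfl | rfl | rfl) <;>
          simp [mul_assoc, hcc, hrc, q1, q2, q3]
      inv_mem' := by
        rintro a (rfl | rfl | rfl | rfl) <;>
          simp [inv_eq_of_mul_eq_one_right hcc, inv_eq_of_mul_eq_one_right hrc, hcr] }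
  have hcD : c ∈ D := Or.inr (Or.inl rfl)
  have hrcD : r c ∈ D := Or.inr (Or.inr (Or.inl rfl))
  have hdD : c * r c ∈ D := Or.inr (Or.inr (Or.inr rfl))
  have hDcard : Nat.card D ≤ 4 := by
    have hsub : ({1, c, r c, c * r c} : Set T).ncard ≤ 4 := by
      have i1 := Set.ncard_insert_le (1 : T) {c, r c, c * r c}
      have i2 := Set.ncard_insert_le c ({r c, c * r c} : Set T)
      have i3 := Set.ncard_insert_le (r c) ({c * r c} : Set T)
      rw [Set.ncard_singleton] at i3
      omega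
    exact (Nat.card_coe_set_eq _).trans_le hsub
  have sw : ∀ {a b : T}, ⁅a, b⁆ ∈ D → ⁅b, a⁆ ∈ D := fun {a b} e => by
    rw [← commutatorElement_inv]; exact D.inv_mem e
  let N : T → Subgroup T := fun g =>
    { carrier := {w | ⁅g, w⁆ ∈ D}
      one_mem' := by simp
      mul_mem' := fun {a b} ha hb => by
        simp only [Set.mem_ofPred_eq] at *; rw [h.cr]; exact D.mul_mem ha hb
      inv_mem' := fun {a} ha => by
        simp only [Set.mem_ofPred_eq] at *
        have : ⁅g, a⁻¹⁆ = ⁅g, a⁆⁻¹ := by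
          refine eq_inv_of_mul_eq_one_left ?_
          rw [← h.cr, inv_mul_cancel, commutatorElement_one_right]
        rw [this]; exact D.inv_mem ha }
  have hVN : ∀ g, V ≤ N g := fun g v hv => by
    show ⁅g, v⁆ ∈ D
    rw [commutatorElement_eq_one_iff_mul_comm.2 (h.central hv g)]
    exact D.one_mem
  have hgens : ∀ g, g = x ∨ g = r x ∨ g = y ∨ g = r y → N g = ⊤ := by
    intro g hg
    have base : ∀ g', g' = x ∨ g' = r x ∨ g' = y ∨ g' = r y → ⁅g, g'⁆ ∈ D := by
      intro g' hg'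
      rcases hg with rfl | rfl | rfl | rfl <;> rcases hg' with rfl | rfl | rfl | rfl <;>
        first
          | (rw [commutatorElement_self]; exact D.one_mem)
          | (rw [h.comm_r_self]; exact D.one_mem)
          | (refine sw ?_; rw [h.comm_r_self]; exact D.one_mem)
          | exact hcD
          | exact sw hcD
          | (rw [k1]; exact hrcD)
          | (rw [k2]; exact hdD)
          | (rw [k3]; exact hdD)
          | (refine sw ?_; rw [k1]; exact hrcD)
          | (refine sw ?_; rw [k2]; exact hdD)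
          | (refine sw ?_; rw [k3]; exact hdD)
    exact hgen _ (hVN g) (base _ (Or.inl rfl)) (base _ (Or.inr (Or.inl rfl)))
      (base _ (Or.inr (Or.inr (Or.inl rfl)))) (base _ (Or.inr (Or.inr (Or.inr rfl))))
  have hall : ∀ g w : T, ⁅g, w⁆ ∈ D := by
    intro g w
    have hm : ∀ g', g' = x ∨ g' = r x ∨ g' = y ∨ g' = r y → g' ∈ N g := fun g' hg' =>
      sw (show g ∈ N g' by rw [hgens g' hg']; exact Subgroup.mem_top g)
    have := hgen _ (hVN g) (hm _ (Or.inl rfl)) (hm _ (Or.inr (Or.inl rfl)))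
      (hm _ (Or.inr (Or.inr (Or.inl rfl)))) (hm _ (Or.inr (Or.inr (Or.inr rfl))))
    exact (show w ∈ N g by rw [this]; exact Subgroup.mem_top w)
  -- the derived subgroup
  let D' : Subgroup T := commutator T
  have hD' : D' ≤ D := by
    show commutator T ≤ D
    rw [commutator_def, Subgroup.commutator_le]
    exact fun g _ w _ => hall g w
  have hmem : ∀ g w : T, ⁅g, w⁆ ∈ D' := fun g w => by
    show ⁅g, w⁆ ∈ commutator T
    rw [commutator_def]
    exact Subgroup.commutator_mem_commutator (Subgroup.mem_top g) (Subgroup.mem_top w)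
  have hUle : U ≤ D' ⊔ V := by
    intro z hz
    have hk1 : k ∈ D' ⊔ V := Subgroup.mem_sup_left (hmem a b)
    have hk2 : r k ∈ D' ⊔ V := Subgroup.mem_sup_left (by rw [hk, map_commutatorElement]; exact hmem _ _)
    have hV' : V ≤ D' ⊔ V := le_sup_right
    rcases h.upre_cases (hcommU a b) hkV hz with e0 | e0 | e0 | e0
    · exact hV' e0
    · exact mem_of_inv_mul_mem hk1 (hV' e0)
    · exact mem_of_inv_mul_mem hk2 (hV' e0)
    · exact mem_of_inv_mul_mem (Subgroup.mul_mem _ hk1 hk2) (hV' e0)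
  have hprod : Nat.card (D' ⊔ V : Subgroup T) * Nat.card (D' ⊓ V : Subgroup T) =
      Nat.card D' * Nat.card V := by
    have h1 := Subgroup.card_mul_index (V.subgroupOf D')
    have h2 : Nat.card (V.subgroupOf D') = Nat.card (D' ⊓ V : Subgroup T) := by
      rw [← Nat.card_congr (Subgroup.subgroupOfEquivOfLe (inf_le_left : D' ⊓ V ≤ D')).toEquiv,
        show (D' ⊓ V).subgroupOf D' = V.subgroupOf D' by ext w; simp [Subgroup.mem_subgroupOf]]
    have h3 : V.relIndex (D' ⊔ V) = V.relIndex D' := Subgroup.relIndex_sup_right D' V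
    have h4 := Subgroup.card_mul_index (V.subgroupOf (D' ⊔ V))
    rw [Nat.card_congr (Subgroup.subgroupOfEquivOfLe (le_sup_right : V ≤ D' ⊔ V)).toEquiv] at h4
    rw [Subgroup.relIndex, Subgroup.relIndex] at h3
    rw [h3] at h4
    rw [h2] at h1
    rw [← h1, ← h4]
    ring
  have hge : 16 ≤ Nat.card (D' ⊔ V : Subgroup T) := hU16 ▸ Subgroup.card_le_of_le hUle
  have hinf : D' ⊓ V = ⊥ := by
    have hle : Nat.card D' ≤ 4 := (Subgroup.card_le_of_le hD').trans hDcard
    rw [h.card] at hprod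
    have hpos : 0 < Nat.card (D' ⊓ V : Subgroup T) := Nat.card_pos
    refine Subgroup.card_eq_one.1 ?_
    nlinarith
  obtain ⟨n, hn, hn1, hnV⟩ := h.exists_fixed (N := D')
    (fun z hz => by
      have : D'.map t.toMonoidHom ≤ D' := by
        show (commutator T).map _ ≤ commutator T
        rw [commutator_def, Subgroup.map_commutator]
        exact Subgroup.commutator_mono le_top le_top
      exact this ⟨z, hz, rfl⟩)
    (fun e0 => hkV (by
      have := hmem a b
      rw [e0, Subgroup.mem_bot] at this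
      rw [hk, this]; exact V.one_mem))
  exact hn1 ((Subgroup.eq_bot_iff_forall _).1 hinf n ⟨hn, hnV⟩)

end Hyp

end Cfsg.Agent.Lib.LAEven56.CentralFour
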