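/-
The special groups of order sixty-four inside `L₃(4)` and `U₃(4)`.
-/
import Mathlib
import Cfsg.Agent.Lib.LAEven56.CentralFour.Classify
import Cfsg.Agent.Lib.Golay.PSL34
import Cfsg.Agent.Lib.Fusion.U34Sylow

set_option autoImplicit false
set_option linter.style.haveILetI false
set_option linter.unusedSectionVars false

namespace Cfsg.Agent.Lib.LAEven56.CentralFour

open scoped commutatorElement

theorem card_closure_insert {G : Type*} [Group G] [Finite G] (g : G) (s : Set G)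
    (hg : g * g ∈ Subgroup.closure s) (hn : ∀ a ∈ s, g⁻¹ * a * g ∈ Subgroup.closure s) :
    Nat.card (Subgroup.closure (insert g s)) ≤ 2 * Nat.card (Subgroup.closure s) := by
  set K := Subgroup.closure s with hKdef
  have hconj : ∀ k ∈ K, g⁻¹ * k * g ∈ K := by
    intro k hk
    induction hk using Subgroup.closure_induction with
    | mem a ha => exact hn a ha
    | one => simpa using K.one_mem
    | mul a b _ _ ha hb =>
      have := K.mul_mem ha hb
      rwa [show g⁻¹ * a * g * (g⁻¹ * b * g) = g⁻¹ * (a * b) * g by group] at this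
    | inv a _ ha =>
      have := K.inv_mem ha
      rwa [show (g⁻¹ * a * g)⁻¹ = g⁻¹ * a⁻¹ * g by group] at this
  have hconj' : ∀ k ∈ K, g * k * g⁻¹ ∈ K := by
    intro k hk
    have h1 := K.mul_mem (K.mul_mem hg (hconj k hk)) (K.inv_mem hg)
    rwa [show g * g * (g⁻¹ * k * g) * (g * g)⁻¹ = g * k * g⁻¹ by group] at h1
  let K' : Subgroup G :=
    { carrier := {x | x ∈ K ∨ g⁻¹ * x ∈ K}
      one_mem' := Or.inl K.one_mem
      mul_mem' := by
        rintro a b (ha | ha) (hb | hb)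
        · exact Or.inl (K.mul_mem ha hb)
        · refine Or.inr ?_
          have := K.mul_mem (hconj a ha) hb
          rwa [show g⁻¹ * a * g * (g⁻¹ * b) = g⁻¹ * (a * b) by group] at this
        · exact Or.inr (by have := K.mul_mem ha hb; rwa [mul_assoc] at this)
        · refine Or.inl ?_
          have := K.mul_mem (K.mul_mem hg (hconj _ ha)) hb
          rwa [show g * g * (g⁻¹ * (g⁻¹ * a) * g) * (g⁻¹ * b) = a * b by group] at this
      inv_mem' := by
        rintro a (ha | ha)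
        · exact Or.inl (K.inv_mem ha)
        · refine Or.inr ?_
          have := K.mul_mem (K.inv_mem hg) (hconj' _ (K.inv_mem ha))
          rwa [show (g * g)⁻¹ * (g * (g⁻¹ * a)⁻¹ * g⁻¹) = g⁻¹ * a⁻¹ by group] at this }
  have hle : Subgroup.closure (insert g s) ≤ K' := by
    rw [Subgroup.closure_le]
    rintro a (rfl | ha)
    · exact Or.inr (by simpa using K.one_mem)
    · exact Or.inl (Subgroup.subset_closure ha)
  refine (Subgroup.card_le_of_le hle).trans ?_
  let F : Bool × K → K' := fun p => ⟨bif p.1 then g * p.2 else p.2, by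
    obtain ⟨b, k, hk⟩ := p
    cases b
    · exact Or.inl hk
    · exact Or.inr (by simpa using hk)⟩
  have hF : Function.Surjective F := by
    rintro ⟨a, ha | ha⟩
    · exact ⟨(false, ⟨a, ha⟩), rfl⟩
    · exact ⟨(true, ⟨_, ha⟩), Subtype.ext (mul_inv_cancel_left g a)⟩
  have := Nat.card_le_card_of_surjective F hF
  rwa [Nat.card_prod, Nat.card_eq_fintype_card (α := Bool), Fintype.card_bool] at this

theorem conj_eq {G : Type*} [Group G] {g a z : G} (hzg : z * g = g * z) (h : g * a = z * (a * g)) :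
    g⁻¹ * a * g = z⁻¹ * a := by
  have e : a * g = z⁻¹ * (g * a) := by rw [h, inv_mul_cancel_left]
  have hzg' : g⁻¹ * z⁻¹ = z⁻¹ * g⁻¹ := by rw [← mul_inv_rev, hzg, mul_inv_rev]
  rw [mul_assoc, e, ← mul_assoc, hzg', mul_assoc, inv_mul_cancel_left]

theorem Rel.prod {T S : Type*} [Group T] [Group S] {e : Bool} {a1 a2 a3 a4 y1 y2 : T}
    {b1 b2 b3 b4 x1 x2 : S} (hT : Rel e a1 a2 a3 a4 y1 y2) (hS : Rel e b1 b2 b3 b4 x1 x2) :
    Rel e (a1, b1) (a2, b2) (a3, b3) (a4, b4) (y1, x1) (y2, x2) where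
  z1g := ⟨Prod.ext hT.z1g.1 hS.z1g.1, Prod.ext hT.z1g.2.1 hS.z1g.2.1,
    Prod.ext hT.z1g.2.2.1 hS.z1g.2.2.1, Prod.ext hT.z1g.2.2.2 hS.z1g.2.2.2⟩
  z2g := ⟨Prod.ext hT.z2g.1 hS.z2g.1, Prod.ext hT.z2g.2.1 hS.z2g.2.1,
    Prod.ext hT.z2g.2.2.1 hS.z2g.2.2.1, Prod.ext hT.z2g.2.2.2 hS.z2g.2.2.2⟩
  zz := Prod.ext hT.zz hS.zz
  z11 := Prod.ext hT.z11 hS.z11
  z22 := Prod.ext hT.z22 hS.z22
  s1 := Prod.ext hT.s1 hS.s1
  s2 := Prod.ext hT.s2 hS.s2
  s3 := by cases e <;> exact Prod.ext hT.s3 hS.s3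
  s4 := by cases e <;> exact Prod.ext hT.s4 hS.s4
  c12 := Prod.ext hT.c12 hS.c12
  c34 := Prod.ext hT.c34 hS.c34
  c13 := Prod.ext hT.c13 hS.c13
  c24 := Prod.ext hT.c24 hS.c24
  c14 := Prod.ext hT.c14 hS.c14
  c23 := Prod.ext hT.c23 hS.c23

theorem Rel.card_le {G : Type*} [Group G] [Finite G] {e : Bool} {g1 g2 g3 g4 z1 z2 : G}
    (h : Rel e g1 g2 g3 g4 z1 z2) :
    Nat.card (Subgroup.closure ({g1, g2, g3, g4} : Set G)) ≤ 64 := by
  let s2 : Set G := {z1, z2}
  have mz1 : ∀ {s : Set G}, z1 ∈ s → z1 ∈ Subgroup.closure s := fun hs => Subgroup.subset_closure hs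
  have hz : ∀ {s : Set G}, z1 ∈ s → z2 ∈ s → z1 * z2 ∈ Subgroup.closure s := fun h1 h2 =>
    Subgroup.mul_mem _ (Subgroup.subset_closure h1) (Subgroup.subset_closure h2)
  have conj_z : ∀ {g z : G}, z * g = g * z → g⁻¹ * z * g = z := fun {g z} e => by
    rw [mul_assoc, e, inv_mul_cancel_left]
  have c0 : Nat.card (Subgroup.closure (∅ : Set G)) = 1 := by
    rw [Subgroup.closure_empty, Subgroup.card_bot]
  have c1 : Nat.card (Subgroup.closure ({z2} : Set G)) ≤ 2 := by
    have := card_closure_insert z2 (∅ : Set G) (by rw [h.z22]; exact Subgroup.one_mem _) (by simp)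
    rw [c0, mul_one, insert_empty_eq] at this
    exact this
  have c2 : Nat.card (Subgroup.closure s2) ≤ 4 := by
    refine (card_closure_insert z1 {z2} (by rw [h.z11]; exact Subgroup.one_mem _) ?_).trans (by omega)
    rintro a rfl
    rw [conj_z h.zz.symm]
    exact Subgroup.subset_closure rfl
  have c3 : Nat.card (Subgroup.closure (insert g4 s2)) ≤ 8 := by
    refine (card_closure_insert g4 s2 ?_ ?_).trans (by omega)
    · rw [h.s4]; cases e
      · exact Subgroup.one_mem _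
      · exact hz (Or.inl rfl) (Or.inr rfl)
    · rintro a (rfl | rfl)
      · rw [conj_z h.z1g.2.2.2]; exact mz1 (Or.inl rfl)
      · rw [conj_z h.z2g.2.2.2]; exact Subgroup.subset_closure (Or.inr rfl)
  have c4 : Nat.card (Subgroup.closure (insert g3 (insert g4 s2))) ≤ 16 := by
    refine (card_closure_insert g3 (insert g4 s2) ?_ ?_).trans (by omega)
    · rw [h.s3]; cases e
      · exact Subgroup.one_mem _
      · exact Subgroup.subset_closure (Or.inr (Or.inr rfl))
    · rintro a (rfl | rfl | rfl)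
      · rw [mul_assoc, ← h.c34, inv_mul_cancel_left]; exact Subgroup.subset_closure (Or.inl rfl)
      · rw [conj_z h.z1g.2.2.1]; exact mz1 (Or.inr (Or.inl rfl))
      · rw [conj_z h.z2g.2.2.1]; exact Subgroup.subset_closure (Or.inr (Or.inr rfl))
  have hz12 : ∀ g, z1 * g = g * z1 → z2 * g = g * z2 → z1 * z2 * g = g * (z1 * z2) := fun g e1 e2 => by
    rw [mul_assoc, e2, ← mul_assoc, e1, mul_assoc]
  have c5 : Nat.card (Subgroup.closure (insert g2 (insert g3 (insert g4 s2)))) ≤ 32 := by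
    refine (card_closure_insert g2 (insert g3 (insert g4 s2)) ?_ ?_).trans (by omega)
    · rw [h.s2]; exact Subgroup.subset_closure (Or.inr (Or.inr (Or.inr rfl)))
    · rintro a (rfl | rfl | rfl | rfl)
      · rw [conj_eq (hz12 g2 h.z1g.2.1 h.z2g.2.1) h.c23]
        exact Subgroup.mul_mem _ (Subgroup.inv_mem _ (hz (Or.inr (Or.inr (Or.inl rfl)))
          (Or.inr (Or.inr (Or.inr rfl))))) (Subgroup.subset_closure (Or.inl rfl))
      · rw [conj_eq h.z2g.2.1 h.c24]
        exact Subgroup.mul_mem _ (Subgroup.inv_mem _ (Subgroup.subset_closure (Or.inr (Or.inr (Or.inr rfl)))))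
          (Subgroup.subset_closure (Or.inr (Or.inl rfl)))
      · rw [conj_z h.z1g.2.1]; exact mz1 (Or.inr (Or.inr (Or.inl rfl)))
      · rw [conj_z h.z2g.2.1]; exact Subgroup.subset_closure (Or.inr (Or.inr (Or.inr rfl)))
  refine (Subgroup.card_le_of_le (Subgroup.closure_mono ?_)).trans
    ((card_closure_insert g1 (insert g2 (insert g3 (insert g4 s2))) ?_ ?_).trans (by omega))
  · rintro a (rfl | rfl | rfl | rfl) <;> simp
  · rw [h.s1]; exact mz1 (Or.inr (Or.inr (Or.inr (Or.inl rfl))))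
  · rintro a (rfl | rfl | rfl | rfl | rfl)
    · rw [mul_assoc, ← h.c12, inv_mul_cancel_left]; exact Subgroup.subset_closure (Or.inl rfl)
    · rw [conj_eq h.z1g.1 h.c13]
      exact Subgroup.mul_mem _ (Subgroup.inv_mem _ (mz1 (Or.inr (Or.inr (Or.inr (Or.inl rfl))))))
        (Subgroup.subset_closure (Or.inr (Or.inl rfl)))
    · rw [conj_eq (hz12 g1 h.z1g.1 h.z2g.1) h.c14]
      exact Subgroup.mul_mem _ (Subgroup.inv_mem _ (hz (Or.inr (Or.inr (Or.inr (Or.inl rfl))))
        (Or.inr (Or.inr (Or.inr (Or.inr rfl)))))) (Subgroup.subset_closure (Or.inr (Or.inr (Or.inl rfl))))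
    · rw [conj_z h.z1g.1]; exact mz1 (Or.inr (Or.inr (Or.inr (Or.inl rfl))))
    · rw [conj_z h.z2g.1]; exact Subgroup.subset_closure (Or.inr (Or.inr (Or.inr (Or.inr rfl))))

/-- A presented group embeds in every group with non-degenerate elements satisfying the relations. -/
theorem exists_embed {T S : Type*} [Group T] [Finite T] [Group S] [Finite S] {e : Bool}
    (hT : Pres T e) (hcard : Nat.card T = 64) {h1 h2 h3 h4 w1 w2 : S} (hS : Rel e h1 h2 h3 h4 w1 w2)
    (n1 : w1 ≠ 1) (n2 : w2 ≠ 1) (n3 : w1 * w2 ≠ 1) : ∃ f : T →* S, Function.Injective f := by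
  obtain ⟨g1, g2, g3, g4, z1, z2, hrel, hcl, hZ, hcomm⟩ := hT
  let D := Subgroup.closure ({(g1, h1), (g2, h2), (g3, h3), (g4, h4)} : Set (T × S))
  let p : D →* T := (MonoidHom.fst T S).comp D.subtype
  have hsurj : Function.Surjective p := by
    rw [← MonoidHom.range_eq_top, ← top_le_iff, ← hcl, Subgroup.closure_le]
    rintro a (rfl | rfl | rfl | rfl)
    exacts [⟨⟨(_, h1), Subgroup.subset_closure (Or.inl rfl)⟩, rfl⟩,
      ⟨⟨(_, h2), Subgroup.subset_closure (Or.inr (Or.inl rfl))⟩, rfl⟩,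
      ⟨⟨(_, h3), Subgroup.subset_closure (Or.inr (Or.inr (Or.inl rfl)))⟩, rfl⟩,
      ⟨⟨(_, h4), Subgroup.subset_closure (Or.inr (Or.inr (Or.inr rfl)))⟩, rfl⟩]
  have hle : Nat.card D ≤ 64 := (hrel.prod hS).card_le
  have hbij : Function.Bijective p := by
    refine (Nat.bijective_iff_surjective_and_card p).2 ⟨hsurj, le_antisymm ?_ ?_⟩
    · rw [hcard]; exact hle
    · exact Nat.card_le_card_of_surjective p hsurj
  let E := MulEquiv.ofBijective p hbij
  let f : T →* S := ((MonoidHom.snd T S).comp D.subtype).comp E.symm.toMonoidHom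
  have hf : ∀ (a : T) (b : S) (_ : (a, b) ∈ D), f a = b := by
    intro a b hab
    have : E.symm a = ⟨(a, b), hab⟩ := by
      rw [MulEquiv.symm_apply_eq]; rfl
    show (E.symm a : T × S).2 = b
    rw [this]
  have f1 : f g1 = h1 := hf _ _ (Subgroup.subset_closure (Or.inl rfl))
  have f2 : f g2 = h2 := hf _ _ (Subgroup.subset_closure (Or.inr (Or.inl rfl)))
  have fz1 : f z1 = w1 := by rw [← hrel.s1, map_mul, f1, hS.s1]
  have fz2 : f z2 = w2 := by rw [← hrel.s2, map_mul, f2, hS.s2]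
  have hz : ∀ n, (n = 1 ∨ n = z1 ∨ n = z2 ∨ n = z1 * z2) → f n = 1 → n = 1 := by
    rintro n (rfl | rfl | rfl | rfl) e0
    · rfl
    · exact absurd (fz1 ▸ e0) n1
    · exact absurd (fz2 ▸ e0) n2
    · rw [map_mul, fz1, fz2] at e0; exact absurd e0 n3
  refine ⟨f, (injective_iff_map_eq_one f).2 fun n hn => ?_⟩
  refine hz n (hZ n fun w => ?_) hn
  rw [← commutatorElement_eq_one_iff_mul_comm]
  refine hz _ (hcomm n w) ?_
  rw [map_commutatorElement, hn, commutatorElement_one_left]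

open Golay.PSL34 in
/-- The Sylow two-subgroups of `L₃(4)`. -/
theorem embed_psl {T : Type*} [Group T] [Finite T] (hT : Pres T false) (hcard : Nat.card T = 64)
    (P : Sylow 2 (Matrix.ProjectiveSpecialLinearGroup (Fin 3) F4)) :
    Nonempty (T ≃* ↥(P : Subgroup (Matrix.ProjectiveSpecialLinearGroup (Fin 3) F4))) := by
  haveI : Fact (Nat.Prime 2) := ⟨Nat.prime_two⟩
  let m : F4 → F4 → F4 → SL34 := fun a b c =>
    ⟨!![1, a, c; 0, 1, b; 0, 0, 1], by simp [Matrix.det_fin_three]⟩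
  let q := QuotientGroup.mk' (Subgroup.center SL34)
  have hrel : Rel false (m F4.l F4.l F4.o) (m F4.w F4.w F4.o) (m F4.l F4.o F4.o) (m F4.w F4.o F4.o)
      (m F4.o F4.o F4.l) (m F4.o F4.o F4.u) := by
    constructor
    all_goals first
      | exact Subtype.ext (by decide +kernel)
      | exact ⟨Subtype.ext (by decide +kernel), Subtype.ext (by decide +kernel),
          Subtype.ext (by decide +kernel), Subtype.ext (by decide +kernel)⟩
  have hq : ∀ z t : SL34, z * t ≠ t * z → q z ≠ 1 := fun z t hzt e =>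
    hzt (Subgroup.mem_center_iff.1 ((QuotientGroup.eq_one_iff z).1 e) t).symm
  have hmap : Rel false (q (m F4.l F4.l F4.o)) (q (m F4.w F4.w F4.o)) (q (m F4.l F4.o F4.o))
      (q (m F4.w F4.o F4.o)) (q (m F4.o F4.o F4.l)) (q (m F4.o F4.o F4.u)) := by
    obtain ⟨⟨a1, a2, a3, a4⟩, ⟨b1, b2, b3, b4⟩, c, d1, d2, e1, e2, e3, e4, f1, f2, f3, f4, f5, f6⟩ :=
      hrel
    constructor
    all_goals try refine ⟨?_, ?_, ?_, ?_⟩
    all_goals simp only [cond_false, ← map_mul] at *
    all_goals first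
      | (rw [a1]) | (rw [a2]) | (rw [a3]) | (rw [a4]) | (rw [b1]) | (rw [b2]) | (rw [b3]) | (rw [b4])
      | (rw [f5]) | (rw [f6]) | (rw [f3]) | (rw [f4]) | (rw [f1]) | (rw [f2])
      | (rw [c]) | (rw [d1]; exact map_one q) | (rw [d2]; exact map_one q) | (rw [e1]) | (rw [e2])
      | (rw [e3]; exact map_one q) | (rw [e4]; exact map_one q)
  let tr : SL34 := ⟨!![1, 0, 0; 0, 1, 0; 1, 0, 1], by simp [Matrix.det_fin_three]⟩
  obtain ⟨f, hf⟩ := exists_embed hT hcard hmap
    (hq _ tr fun e => absurd (congrArg Subtype.val e) (by decide +kernel))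
    (hq _ tr fun e => absurd (congrArg Subtype.val e) (by decide +kernel))
    (by
      rw [← map_mul]
      exact hq _ tr fun e => absurd (congrArg Subtype.val e) (by decide +kernel))
  have hc : Nat.card f.range = 2 ^ (Nat.card (Matrix.ProjectiveSpecialLinearGroup (Fin 3) F4)).factorization 2 := by
    rw [← Nat.card_congr (MonoidHom.ofInjective hf).toEquiv, hcard, card_PSL,
      show (20160 : ℕ) = 2 ^ 6 * 315 from rfl, Nat.factorization_mul (by norm_num) (by norm_num),
      Finsupp.add_apply, Nat.Prime.factorization_pow Nat.prime_two, Finsupp.single_eq_same,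
      Nat.factorization_eq_zero_of_not_dvd (by norm_num : ¬ 2 ∣ 315)]
    norm_num
  exact ⟨(MonoidHom.ofInjective hf).trans (Sylow.equiv (Sylow.ofCard f.range hc) P)⟩

open Fusion.U34Sylow in
/-- The Sylow two-subgroups of `U₃(4)`. -/
theorem embed_psu {T : Type*} [Group T] [Finite T] (hT : Pres T true) (hcard : Nat.card T = 64)
    {F : Type} [Field F] [Fintype F] (hF : Fintype.card F = 16) (P : Sylow 2 (Cfsg.PSU 3 F 4)) :
    Nonempty (T ≃* ↥(P : Subgroup (Cfsg.PSU 3 F 4))) := by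
  classical
  obtain ⟨co⟩ := exists_coords hF P
  have h2 := two_eq_zero hF
  have hq := card_eq hF
  obtain ⟨a, ha⟩ := Unitary.trace_surj hq (y := (1 : F)) (one_pow 4)
  have ha4 : a ^ 4 = a + 1 := by linear_combination ha - a * h2
  set s := a * a + a with hs
  have hs2 : s * s = s + 1 := by
    rw [hs]; linear_combination ha4 + (a * a * a) * h2
  have hs4 : s ^ 4 = s := by
    linear_combination (s * s + s + 2) * hs2 + (s + 1) * h2
  have mul_eq : ∀ {p r u : Pairs F}, u.1.1 = p.1.1 + r.1.1 →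
      u.1.2 = p.1.2 + r.1.2 + p.1.1 ^ 4 * r.1.1 → co.equiv p * co.equiv r = co.equiv u := by
    intro p r u e1 e2
    obtain ⟨h, e⟩ := co.mul p r
    rw [e]
    exact congrArg co.equiv (Subtype.ext (Prod.ext e1.symm e2.symm))
  let o : Pairs F := ⟨(0, 0), by simp⟩
  have ho : co.equiv o = 1 := by
    have : co.equiv o * co.equiv o = co.equiv o := mul_eq (by simp [o]) (by simp [o])
    exact mul_eq_left.1 this
  let zp : ∀ z : F, z ^ 4 = z → Pairs F := fun z hz => ⟨(0, z), by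
    show z + z ^ 4 = 0 * 0 ^ 4
    rw [hz]; linear_combination z * h2⟩
  obtain ⟨w, hw⟩ : ∃ w, w = s + 1 := ⟨_, rfl⟩
  have hw4 : w ^ 4 = w := by
    rw [hw, Unitary.add_pow_q hq, hs4, one_pow]
  obtain ⟨p1, hp1⟩ := exists_pair hF (1 : F)
  obtain ⟨p2, hp2⟩ := exists_pair hF w
  obtain ⟨p3, hp3⟩ := exists_pair hF a
  obtain ⟨p4, hp4⟩ := exists_pair hF (w * a)
  let Z1 := co.equiv (zp 1 (one_pow 4))
  let Z2 := co.equiv (zp s hs4)
  have h12 : Z1 * Z2 = co.equiv (zp w hw4) := mul_eq (by simp [zp]) (by simp [zp, hw]; ring)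
  have hsq : ∀ (p : Pairs F) (z : F) (hz : z ^ 4 = z), p.1.1 ^ 4 * p.1.1 = z →
      co.equiv p * co.equiv p = co.equiv (zp z hz) := fun p z hz e => by
    refine mul_eq ?_ ?_
    · show (0 : F) = _; linear_combination -(p.1.1 * h2)
    · show z = _; linear_combination -(p.1.2 * h2) - e
  have hcz : ∀ (p : Pairs F) (z : F) (hz : z ^ 4 = z),
      co.equiv (zp z hz) * co.equiv p = co.equiv p * co.equiv (zp z hz) := fun p z hz => by
    obtain ⟨h, e⟩ := co.mul p (zp z hz)
    rw [e]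
    exact mul_eq (by simp [zp]) (by simp [zp]; ring)
  have hsw : ∀ (p r : Pairs F) (z : F) (hz : z ^ 4 = z), p.1.1 ^ 4 * r.1.1 + r.1.1 ^ 4 * p.1.1 = z →
      co.equiv p * co.equiv r = co.equiv (zp z hz) * (co.equiv r * co.equiv p) := fun p r z hz e => by
    obtain ⟨h, e1⟩ := co.mul p r
    obtain ⟨h', e2⟩ := co.mul r p
    rw [e1, e2]
    refine (mul_eq ?_ ?_).symm
    · simp [zp]; ring
    · simp [zp]
      linear_combination e - (r.1.1 ^ 4 * p.1.1) * h2
  have hsw0 : ∀ (p r : Pairs F), p.1.1 ^ 4 * r.1.1 + r.1.1 ^ 4 * p.1.1 = 0 →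
      co.equiv p * co.equiv r = co.equiv r * co.equiv p := fun p r e => by
    rw [hsw p r 0 (by simp) e, show zp (0 : F) (by simp) = o from rfl, ho, one_mul]
  have hz0 : ∀ (z : F) (hz : z ^ 4 = z), co.equiv (zp z hz) = 1 → z = 0 := fun z hz e =>
    congrArg (fun p : Pairs F => p.1.2) (co.equiv.injective (e.trans ho.symm))
  have hw2 : w * w = s := by rw [hw]; linear_combination hs2 + (s + 1) * h2
  have hrel : Rel true (co.equiv p1) (co.equiv p2) (co.equiv p3) (co.equiv p4) Z1 Z2 := by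
    have one4 : (1 : F) ^ 4 = 1 := one_pow 4
    refine ⟨⟨hcz _ 1 one4, hcz _ 1 one4, hcz _ 1 one4, hcz _ 1 one4⟩,
      ⟨hcz _ s hs4, hcz _ s hs4, hcz _ s hs4, hcz _ s hs4⟩, hcz _ 1 one4, ?_, ?_, hsq p1 1 one4 ?_, hsq p2 s hs4 ?_, hsq p3 s hs4 ?_, (hsq p4 w hw4 ?_).trans h12.symm,
      hsw0 p1 p2 ?_, hsw0 p3 p4 ?_, hsw p1 p3 1 one4 ?_, hsw p2 p4 s hs4 ?_,
      h12 ▸ hsw p1 p4 w hw4 ?_, h12 ▸ hsw p2 p3 w hw4 ?_⟩
    · exact (hsq (zp 1 (one_pow 4)) 0 (by simp) (by simp [zp])).trans ho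
    · exact (hsq (zp s hs4) 0 (by simp) (by simp [zp])).trans ho
    · rw [hp1]; ring
    · rw [hp2, hw4, hw2]
    · rw [hp3, ha4, hs]; ring
    · rw [hp4, mul_pow, hw4, ha4]; linear_combination (a * a + a) * hw2 + hs2 + s * hs - hw
    · rw [hp1, hp2, hw4]; linear_combination w * h2
    · rw [hp3, hp4, mul_pow, hw4, ha4]; linear_combination (w * a * (a + 1)) * h2
    · rw [hp1, hp3, ha4]; linear_combination a * h2
    · rw [hp2, hp4, mul_pow, hw4, ha4]; linear_combination hw2 + w * w * a * h2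
    · rw [hp1, hp4, mul_pow, hw4, ha4]; linear_combination w * a * h2
    · rw [hp2, hp3, hw4, ha4]; linear_combination w * a * h2
  have hs0 : s ≠ 0 := fun e => one_ne_zero (α := F) (by linear_combination -hs2 + (s - 1) * e)
  obtain ⟨f, hf⟩ := exists_embed hT hcard hrel (fun e => one_ne_zero (hz0 1 (one_pow 4) e))
    (fun e => hs0 (hz0 s hs4 e))
    (fun e => by
      rw [h12] at e
      have e' : w = 0 := hz0 w hw4 e
      rw [hw] at e'
      exact one_ne_zero (α := F) (by linear_combination hs2 - (s - 2) * e'))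
  have hP : Nat.card (P : Subgroup (Cfsg.PSU 3 F 4)) = 64 := by
    rw [← Nat.card_congr co.equiv, card_pairs hF]
  exact ⟨MulEquiv.ofBijective f ((Nat.bijective_iff_injective_and_card f).2 ⟨hf, by rw [hcard, hP]⟩)⟩

end Cfsg.Agent.Lib.LAEven56.CentralFour
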