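/-
The induction giving the three shapes.
-/
import Mathlib
import Cfsg.Agent.Lib.LAEven56.CentralFour.Classify

set_option autoImplicit false
set_option linter.style.haveILetI false
set_option linter.unusedSectionVars false

namespace Cfsg.Agent.Lib.LAEven56.CentralFour

open scoped commutatorElement

universe u

/-- The homomorphism from residues to powers. -/
def zpowHom {T : Type*} [Group T] (x : T) (N : ℕ) (hx : x ^ N = 1) :
    Multiplicative (ZMod N) →* T :=
  AddMonoidHom.toMultiplicativeLeft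
    (ZMod.lift N ⟨zmultiplesHom (Additive T) (Additive.ofMul x), by
      simp [zmultiplesHom_apply, ← ofMul_pow, hx]⟩)

theorem zpowHom_apply {T : Type*} [Group T] (x : T) (N : ℕ) (hx : x ^ N = 1) (i : ℤ) :
    zpowHom x N hx (Multiplicative.ofAdd (i : ZMod N)) = x ^ i := by
  simp [zpowHom, zmultiplesHom_apply, ← ofMul_zpow]

theorem mk_zpow_mul {T : Type*} [Group T] {V : Subgroup T} [V.Normal] (x y : T) (i j : ℤ) :
    (QuotientGroup.mk (x ^ i * y ^ j) : T ⧸ V) =
      (QuotientGroup.mk x : T ⧸ V) ^ i * (QuotientGroup.mk y : T ⧸ V) ^ j := by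
  rw [QuotientGroup.mk_mul, QuotientGroup.mk_zpow, QuotientGroup.mk_zpow]

/-- The bijection in the homocyclic case. -/
theorem caseB_equiv {T : Type*} [Group T] [Finite T] {r : T ≃* T} {x : T} {n : ℕ}
    (hcomm : x * r x = r x * x) (hgen : ∀ z, ∃ i j : ℤ, z = x ^ i * r x ^ j)
    (hcard : Nat.card T = 4 ^ n) (hx : x ^ (2 ^ n : ℕ) = 1) :
    ∃ e : Multiplicative (ZMod (2 ^ n)) × Multiplicative (ZMod (2 ^ n)) ≃* T,
      ∀ i j : ℤ, e (Multiplicative.ofAdd (i : ZMod (2 ^ n)), Multiplicative.ofAdd (j : ZMod (2 ^ n))) =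
        x ^ i * r x ^ j := by
  have hrx : r x ^ (2 ^ n : ℕ) = 1 := by rw [← map_pow, hx, map_one]
  let f₁ := zpowHom x (2 ^ n) hx
  let f₂ := zpowHom (r x) (2 ^ n) hrx
  have hc : ∀ a b, Commute (f₁ a) (f₂ b) := by
    intro a b
    obtain ⟨i, hi⟩ := ZMod.intCast_surjective (Multiplicative.toAdd a)
    obtain ⟨j, hj⟩ := ZMod.intCast_surjective (Multiplicative.toAdd b)
    rw [show a = Multiplicative.ofAdd (i : ZMod (2 ^ n)) from by rw [hi]; rfl,
      show b = Multiplicative.ofAdd (j : ZMod (2 ^ n)) from by rw [hj]; rfl]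
    simp only [f₁, f₂, zpowHom_apply]
    exact (Commute.zpow_zpow hcomm i j)
  let f := MonoidHom.noncommCoprod f₁ f₂ hc
  have happ : ∀ i j : ℤ, f (Multiplicative.ofAdd (i : ZMod (2 ^ n)),
      Multiplicative.ofAdd (j : ZMod (2 ^ n))) = x ^ i * r x ^ j := fun i j => by
    simp [f, f₁, f₂, zpowHom_apply]
  have hsurj : Function.Surjective f := fun z => by
    obtain ⟨i, j, rfl⟩ := hgen z
    exact ⟨_, happ i j⟩
  have hcd : Nat.card (Multiplicative (ZMod (2 ^ n)) × Multiplicative (ZMod (2 ^ n))) = Nat.card T := by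
    have : Nat.card (Multiplicative (ZMod (2 ^ n))) = 2 ^ n :=
      (Nat.card_congr Multiplicative.toAdd).trans (Nat.card_zmod _)
    rw [Nat.card_prod, this, hcard, ← mul_pow]; norm_num
  exact ⟨MulEquiv.ofBijective f ((Nat.bijective_iff_surjective_and_card f).2 ⟨hsurj, hcd⟩), happ⟩

theorem caseB_indep {T : Type*} [Group T] [Finite T] {r : T ≃* T} {x : T} {n : ℕ}
    (hcomm : x * r x = r x * x) (hgen : ∀ z, ∃ i j : ℤ, z = x ^ i * r x ^ j)
    (hcard : Nat.card T = 4 ^ n) (hx : x ^ (2 ^ n : ℕ) = 1) (i j : ℤ) (h : x ^ i * r x ^ j = 1) :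
    ((2 ^ n : ℕ) : ℤ) ∣ i ∧ ((2 ^ n : ℕ) : ℤ) ∣ j := by
  obtain ⟨e, he⟩ := caseB_equiv hcomm hgen hcard hx
  rw [← he, MulEquiv.map_eq_one_iff] at h
  have h1 : (i : ZMod (2 ^ n)) = 0 := congrArg (fun p => Multiplicative.toAdd p.1) h
  have h2 : (j : ZMod (2 ^ n)) = 0 := congrArg (fun p => Multiplicative.toAdd p.2) h
  exact ⟨(ZMod.intCast_zmod_eq_zero_iff_dvd i _).1 h1, (ZMod.intCast_zmod_eq_zero_iff_dvd j _).1 h2⟩

theorem classify_aux : ∀ (N : ℕ) (T : Type u) [Group T] [Finite T] (V : Subgroup T) (t r : T ≃* T),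
    Hyp V t r → Nat.card T = N → CaseA T ∨ CaseB r ∨ CaseC V := by
  intro N
  induction N using Nat.strong_induction_on with
  | _ N ih =>
  intro T _ _ V t r h hN
  haveI := h.normal
  by_cases hne : V = ⊤
  · -- the base case
    have hT4 : Nat.card T = 4 := by
      have := h.card
      rwa [hne, Subgroup.card_top] at this
    haveI : Nontrivial T := Finite.one_lt_card_iff_nontrivial.1 (by omega)
    obtain ⟨v, hv⟩ := exists_ne (1 : T)
    have hvV : v ∈ V := hne ▸ Subgroup.mem_top v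
    refine Or.inr (Or.inl ⟨v, 1, le_rfl, fun z => ?_, by rw [hT4]; rfl,
      by rw [pow_one, pow_two, h.exp v hvV]⟩)
    rcases h.V_cases hvV hv (hne ▸ Subgroup.mem_top z) with rfl | rfl | rfl | rfl
    exacts [⟨0, 0, by simp⟩, ⟨1, 0, by simp⟩, ⟨0, 1, by simp⟩, ⟨1, 1, by simp⟩]
  let U := upre h
  have hcard4 := h.card_eq_four_mul
  have hpos : 0 < Nat.card (T ⧸ V) := Nat.card_pos
  have hq := h.quot hne
  haveI := hq.normal
  rcases ih _ (by omega) (T ⧸ V) _ _ _ hq rfl with ⟨h16, hex⟩ | ⟨xq, n, hn, hgq, hcq, hxq⟩ | hC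
  · -- the quotient is elementary of order sixteen
    have hsq : ∀ x : T, x * x ∈ V := fun x => (QuotientGroup.eq_one_iff _).1 (hex (QuotientGroup.mk x))
    refine Or.inr (Or.inr ⟨by rw [hcard4, h16], ?_, hsq⟩)
    by_contra hab
    push Not at hab
    have hU16 := h.card_upre hne
    obtain ⟨y, hy⟩ : ∃ y, y ∉ U := by
      by_contra hc
      push Not at hc
      have : U = ⊤ := top_le_iff.1 fun x _ => hc x
      have : Nat.card U = Nat.card T := by rw [this, Subgroup.card_top]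
      have : Nat.card U = 16 := hU16
      omega
    refine hy ?_
    show y⁻¹ * t y ∈ V
    have h2 : y * t y ∈ V := (h.fix _).1 (by rw [map_mul, h.tt, hab])
    have h3 := V.mul_mem (V.inv_mem (hsq y)) h2
    rwa [mul_inv_rev, mul_assoc, inv_mul_cancel_left] at h3
  · -- the quotient is homocyclic
    obtain ⟨x, rfl⟩ := QuotientGroup.mk_surjective xq
    have hrr : h.rBar (QuotientGroup.mk x) = QuotientGroup.mk (r x) := rfl
    have hgen : ∀ z, ∃ v ∈ V, ∃ i j : ℤ, z = v * (x ^ i * r x ^ j) := by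
      intro z
      obtain ⟨i, j, e⟩ := hgq (QuotientGroup.mk z)
      rw [hrr, ← mk_zpow_mul] at e
      refine ⟨(x ^ i * r x ^ j)⁻¹ * z, QuotientGroup.eq.1 e.symm, i, j, ?_⟩
      rw [← h.central (QuotientGroup.eq.1 e.symm), mul_inv_cancel_left]
    have hab := h.abelian_of_gen x hgen
    have hindep : ∀ i j : ℤ, x ^ i * r x ^ j ∈ V →
        ((2 ^ n : ℕ) : ℤ) ∣ i ∧ ((2 ^ n : ℕ) : ℤ) ∣ j := by
      intro i j hij
      refine caseB_indep (r := h.rBar) (x := (QuotientGroup.mk x : T ⧸ V)) ?_ hgq hcq hxq i j ?_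
      · rw [hrr, ← QuotientGroup.mk_mul, ← QuotientGroup.mk_mul, hab]
      · rw [hrr, ← mk_zpow_mul]
        exact (QuotientGroup.eq_one_iff _).2 hij
    have hN' : Nat.card T = 4 ^ (n + 1) := by rw [hcard4, hcq, pow_succ, mul_comm]
    have hv0 : x ^ (2 ^ n : ℕ) ∈ V := by
      rw [← QuotientGroup.eq_one_iff, QuotientGroup.mk_pow]; exact hxq
    by_cases hx1 : x ^ (2 ^ n : ℕ) = 1
    · have hrx1 : r x ^ (2 ^ n : ℕ) = 1 := by rw [← map_pow, hx1, map_one]
      have hdvd : ∀ {i : ℤ} (y : T), y ^ (2 ^ n : ℕ) = 1 → ((2 ^ n : ℕ) : ℤ) ∣ i → y ^ i = 1 := by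
        rintro i y hy ⟨k, rfl⟩
        rw [zpow_mul, zpow_natCast, hy, one_zpow]
      have hK : ∀ i j : ℤ, x ^ i * r x ^ j ∈ V → x ^ i * r x ^ j = 1 := fun i j hij => by
        obtain ⟨d1, d2⟩ := hindep i j hij
        rw [hdvd x hx1 d1, hdvd (r x) hrx1 d2, one_mul]
      by_cases hn1 : n = 1
      · subst hn1
        refine Or.inl ⟨by rw [hN']; rfl, fun z => ?_⟩
        obtain ⟨v, hv, i, j, rfl⟩ := hgen z
        have e1 : ∀ y : T, y ^ (2 ^ 1 : ℕ) = 1 → ∀ k : ℤ, y ^ k * y ^ k = 1 := fun y hy k => by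
          rw [← zpow_add]
          exact hdvd y hy ⟨k, by push_cast; ring⟩
        let _ : CommGroup T := { (inferInstance : Group T) with mul_comm := hab }
        calc v * (x ^ i * r x ^ j) * (v * (x ^ i * r x ^ j))
            = v * v * ((x ^ i * x ^ i) * (r x ^ j * r x ^ j)) := by ac_rfl
          _ = 1 := by rw [h.exp v hv, e1 x hx1 i, e1 (r x) hrx1 j]; simp
      · exfalso
        obtain ⟨m, rfl⟩ : ∃ m, n = m + 2 := ⟨n - 2, by omega⟩
        -- an element of order two in the image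
        set w := x ^ (2 ^ m : ℕ) with hw
        have hw4 : w ^ 4 = 1 := by
          rw [hw, ← pow_mul, show 2 ^ m * 4 = 2 ^ (m + 2) by rw [pow_add]; norm_num, hx1]
        set u := w * w with hu
        have huV : u ∉ V := by
          intro e
          have e' : x ^ ((2 ^ (m + 1) : ℕ) : ℤ) * r x ^ (0 : ℤ) ∈ V := by
            rw [zpow_zero, mul_one, zpow_natCast,
              show x ^ (2 ^ (m + 1) : ℕ) = u by rw [hu, hw, ← pow_add]; congr 1; rw [pow_succ]; ring]
            exact e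
          obtain ⟨d1, -⟩ := hindep _ _ e'
          have := Nat.le_of_dvd (by positivity) (Int.natCast_dvd_natCast.1 d1)
          rw [pow_succ 2 (m + 1)] at this
          have : 0 < 2 ^ (m + 1) := by positivity
          omega
        have hwv : (w * t w) * (w * t w) = 1 := h.exp _ ((h.fix _).1 (by rw [map_mul, h.tt, hab]))
        let _ : CommGroup T := { (inferInstance : Group T) with mul_comm := hab }
        have hu2 : u * u = 1 := by rw [hu, ← hw4]; simp [pow_succ, mul_assoc]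
        have htu : t u = u := by
          have e1 : u * t u = 1 := by
            rw [hu, map_mul, ← hwv]; ac_rfl
          rw [← inv_eq_of_mul_eq_one_right e1, inv_eq_of_mul_eq_one_right hu2]
        exact huV ((h.fix u).1 htu)
    · -- homocyclic of larger exponent
      refine Or.inr (Or.inl ⟨x, n + 1, Nat.le_add_left 1 n, fun z => ?_, hN', ?_⟩)
      · obtain ⟨v, hv, i, j, rfl⟩ := hgen z
        let _ : CommGroup T := { (inferInstance : Group T) with mul_comm := hab }
        have key : ∀ a b : ℤ, ∃ i' j' : ℤ, x ^ a * r x ^ b * (x ^ i * r x ^ j) = x ^ i' * r x ^ j' :=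
          fun a b => ⟨a + i, b + j, by rw [zpow_add, zpow_add]; ac_rfl⟩
        rcases h.V_cases hv0 hx1 hv with rfl | rfl | rfl | rfl
        · simpa using key 0 0
        · obtain ⟨i', j', hk⟩ := key ((2 ^ n : ℕ) : ℤ) 0
          rw [zpow_natCast, zpow_zero, mul_one] at hk
          exact ⟨i', j', hk⟩
        · obtain ⟨i', j', hk⟩ := key 0 ((2 ^ n : ℕ) : ℤ)
          rw [zpow_natCast, zpow_zero, one_mul, ← map_pow] at hk
          exact ⟨i', j', hk⟩
        · obtain ⟨i', j', hk⟩ := key ((2 ^ n : ℕ) : ℤ) ((2 ^ n : ℕ) : ℤ)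
          rw [zpow_natCast, zpow_natCast, ← map_pow] at hk
          exact ⟨i', j', hk⟩
      · rw [pow_succ, pow_mul, pow_two, h.exp _ hv0]
  · exact (h.not_quot_caseC hne hC).elim

/-- The classification. -/
theorem classify {T : Type u} [Group T] [Finite T] {V : Subgroup T} {t r : T ≃* T} (h : Hyp V t r) :
    CaseA T ∨ CaseB r ∨ CaseC V :=
  classify_aux _ T V t r h rfl

end Cfsg.Agent.Lib.LAEven56.CentralFour
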