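/-
The statement for a subgroup normalised by a commuting pair of an involution and an element of
order three.
-/
import Mathlib
import Cfsg.Agent.Lib.LAEven56.CentralFour.Shapes
import Cfsg.Agent.Lib.LAEven56.CentralFour.Models

set_option autoImplicit false
set_option linter.style.haveILetI false
set_option linter.unusedSectionVars false

namespace Cfsg.Agent.Lib.LAEven56.CentralFour

open scoped commutatorElement

/-- Conjugation by a normalising element. -/
def conjOn {G : Type*} [Group G] (T : Subgroup G) (g : G)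
    (hg : g ∈ Subgroup.normalizer (T : Set G)) : T ≃* T where
  toFun x := ⟨g * x * g⁻¹, (Subgroup.mem_normalizer_iff.1 hg x).1 x.2⟩
  invFun x := ⟨g⁻¹ * x * g, by
    have := (Subgroup.mem_normalizer_iff.1 ((Subgroup.normalizer (T : Set G)).inv_mem hg) x).1 x.2
    rwa [inv_inv] at this⟩
  left_inv x := Subtype.ext (by simp [mul_assoc])
  right_inv x := Subtype.ext (by simp [mul_assoc])
  map_mul' x y := Subtype.ext (by simp [mul_assoc])

theorem conjOn_apply {G : Type*} [Group G] (T : Subgroup G) (g : G)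
    (hg : g ∈ Subgroup.normalizer (T : Set G)) (x : T) :
    ((conjOn T g hg x : T) : G) = g * x * g⁻¹ := rfl

theorem five_absurd {G : Type*} [Group G] [Finite G] {V : Subgroup G} (hcard : Nat.card V = 4)
    {v w a b : G} (hv : v ∈ V) (hw : w ∈ V) (ha : a ∈ V) (hb : b ∈ V) (v1 : v ≠ 1) (w1 : w ≠ 1)
    (a1 : a ≠ 1) (b1 : b ≠ 1) (wv : w ≠ v) (av : a ≠ v) (bv : b ≠ v) (aw : a ≠ w) (bw : b ≠ w)
    (ba : b ≠ a) : False := by
  classical
  have h5 : ({1, v, w, a, b} : Finset G).card = 5 := by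
    rw [Finset.card_insert_of_notMem (by simp [v1.symm, w1.symm, a1.symm, b1.symm]),
      Finset.card_insert_of_notMem (by simp [wv.symm, av.symm, bv.symm]),
      Finset.card_insert_of_notMem (by simp [aw.symm, bw.symm]),
      Finset.card_insert_of_notMem (by simp [ba.symm]), Finset.card_singleton]
  have hsub : (({1, v, w, a, b} : Finset G) : Set G) ⊆ (V : Set G) := by
    intro y hy
    simp only [Finset.coe_insert, Finset.coe_singleton, Set.mem_insert_iff,
      Set.mem_singleton_iff] at hy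
    rcases hy with rfl | rfl | rfl | rfl | rfl
    exacts [V.one_mem, hv, hw, ha, hb]
  have := Set.ncard_le_ncard hsub (Set.toFinite _)
  rw [Set.ncard_coe_finset, h5, ← Nat.card_coe_set_eq, SetLike.coe_sort_coe, hcard] at this
  omega

theorem hyp_of {G : Type*} [Group G] [Finite G] (T V : Subgroup G) (hT : IsPGroup 2 ↥T)
    (hVT : V ≤ T ⊓ Subgroup.centralizer (T : Set G))
    (hV : Nat.card ↥V = 4 ∧ ∀ v ∈ V, v ^ 2 = 1) (t ρ : G) (ht : orderOf t = 2) (hρ : orderOf ρ = 3)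
    (htT : t ∈ Subgroup.normalizer (T : Set G)) (hρT : ρ ∈ Subgroup.normalizer (T : Set G))
    (hρV : ρ ∈ Subgroup.normalizer (V : Set G))
    (htρ : t * ρ = ρ * t) (hVρ : ⁅V, Subgroup.zpowers ρ⁆ = V)
    (hCt : T ⊓ Subgroup.centralizer ({t} : Set G) = V) :
    Hyp (V.subgroupOf T) (conjOn T t htT) (conjOn T ρ hρT) := by
  have hVle : V ≤ T := fun v hv => (hVT hv).1
  have ht2 : t * t = 1 := by rw [← pow_two, ← ht, pow_orderOf_eq_one]
  have hρ3 : ρ * ρ * ρ = 1 := by
    have := pow_orderOf_eq_one ρ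
    rw [hρ] at this
    simpa [pow_succ] using this
  have hexp : ∀ v ∈ V, v * v = 1 := fun v hv => by rw [← pow_two]; exact hV.2 v hv
  have hρmem : ∀ v ∈ V, ρ * v * ρ⁻¹ ∈ V := fun v hv => (Subgroup.mem_normalizer_iff.1 hρV v).1 hv
  refine ⟨hT, ?_, ?_, ?_, ?_, ?_, ?_, ?_, ?_⟩
  · intro v hv
    rw [Subgroup.mem_center_iff]
    intro g
    exact Subtype.ext (Subgroup.mem_centralizer_iff.1 (hVT hv).2 g g.2)
  · rw [Nat.card_congr (Subgroup.subgroupOfEquivOfLe hVle).toEquiv]; exact hV.1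
  · exact fun v hv => Subtype.ext (hexp v hv)
  · intro x
    refine Subtype.ext ?_
    rw [conjOn_apply, conjOn_apply]
    calc t * (t * x * t⁻¹) * t⁻¹ = (t * t) * x * (t * t)⁻¹ := by group
      _ = x := by rw [ht2]; simp
  · intro x
    constructor
    · intro hx
      have h' : t * x * t⁻¹ = x := congrArg Subtype.val hx
      show (x : G) ∈ V
      rw [← hCt]
      exact ⟨x.2, Subgroup.mem_centralizer_singleton_iff.2 (mul_inv_eq_iff_eq_mul.1 h').symm⟩
    · intro hx
      have h2 : (x : G) ∈ T ⊓ Subgroup.centralizer ({t} : Set G) := by rw [hCt]; exact hx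
      refine Subtype.ext ?_
      rw [conjOn_apply, ← Subgroup.mem_centralizer_singleton_iff.1 h2.2, mul_inv_cancel_right]
  · intro x
    refine Subtype.ext ?_
    rw [conjOn_apply, conjOn_apply, conjOn_apply]
    calc ρ * (ρ * (ρ * x * ρ⁻¹) * ρ⁻¹) * ρ⁻¹ = (ρ * ρ * ρ) * x * (ρ * ρ * ρ)⁻¹ := by group
      _ = x := by rw [hρ3]; simp
  · intro x
    refine Subtype.ext ?_
    rw [conjOn_apply, conjOn_apply, conjOn_apply, conjOn_apply]
    calc t * (ρ * x * ρ⁻¹) * t⁻¹ = (t * ρ) * x * (t * ρ)⁻¹ := by group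
      _ = (ρ * t) * x * (ρ * t)⁻¹ := by rw [htρ]
      _ = _ := by group
  · intro v hv hfix
    refine Subtype.ext ?_
    by_contra hv1
    have h' : ρ * v * ρ⁻¹ = v := congrArg Subtype.val hfix
    have hall : ∀ w ∈ V, ρ * w * ρ⁻¹ = w := by
      intro w hw
      by_contra hw1
      set σ : G → G := fun y => ρ * y * ρ⁻¹ with hσ
      have hinj : ∀ {a b : G}, σ a = σ b → a = b := fun {a b} e =>
        mul_left_cancel (mul_right_cancel e)
      have h3 : σ (σ (σ w)) = w := by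
        simp only [hσ]
        calc ρ * (ρ * (ρ * w * ρ⁻¹) * ρ⁻¹) * ρ⁻¹ = (ρ * ρ * ρ) * w * (ρ * ρ * ρ)⁻¹ := by group
          _ = w := by rw [hρ3]; simp
      have hs1 : σ 1 = 1 := by simp [hσ]
      have hw0 : w ≠ 1 := fun e => hw1 (by rw [e]; exact hs1)
      have hwv : w ≠ (v : G) := fun e => hw1 (by rw [e]; exact h')
      have ha1 : σ w ≠ 1 := fun e => hw0 (hinj (e.trans hs1.symm))
      have ha2 : σ w ≠ (v : G) := fun e => hwv (hinj (e.trans h'.symm))
      have hb1 : σ (σ w) ≠ 1 := fun e => ha1 (hinj (e.trans hs1.symm))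
      have hb2 : σ (σ w) ≠ (v : G) := fun e => ha2 (hinj (e.trans h'.symm))
      have hb3 : σ (σ w) ≠ σ w := fun e => hw1 (hinj e)
      have hb4 : σ (σ w) ≠ w := fun e => by
        have : σ w = w := by rw [← e, h3, e]
        exact hw1 this
      have hv1' : (v : G) ≠ 1 := hv1
      exact five_absurd hV.1 hv hw (hρmem w hw) (hρmem _ (hρmem w hw)) hv1' hw0 ha1 hb1 hwv ha2 hb2
        hw1 hb4 hb3
    have hbot : ⁅V, Subgroup.zpowers ρ⁆ = ⊥ := by
      rw [Subgroup.commutator_eq_bot_iff_le_centralizer]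
      intro w hw
      rw [Subgroup.zpowers_eq_closure, Subgroup.centralizer_closure,
        Subgroup.mem_centralizer_singleton_iff]
      exact (mul_inv_eq_iff_eq_mul.1 (hall w hw)).symm
    have h4 := hV.1
    rw [← hVρ, hbot, Subgroup.card_bot] at h4
    omega

/-- The statement. -/
theorem four_cases {G : Type*} [Group G] [Finite G] (T V : Subgroup G) (hT : IsPGroup 2 ↥T)
    (hVT : V ≤ T ⊓ Subgroup.centralizer (T : Set G))
    (hV : Nat.card ↥V = 4 ∧ ∀ v ∈ V, v ^ 2 = 1) (t ρ : G) (ht : orderOf t = 2) (hρ : orderOf ρ = 3)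
    (htn : t ∈ Subgroup.normalizer (V : Set G) ⊓ Subgroup.normalizer (T : Set G))
    (hρn : ρ ∈ Subgroup.normalizer (V : Set G) ⊓ Subgroup.normalizer (T : Set G))
    (htρ : t * ρ = ρ * t) (hVρ : ⁅V, Subgroup.zpowers ρ⁆ = V)
    (hCt : T ⊓ Subgroup.centralizer ({t} : Set G) = V) :
    (Nat.card ↥T = 16 ∧ ∀ x ∈ T, x ^ 2 = 1) ∨
    (∃ n : ℕ, 1 ≤ n ∧ Nonempty (↥T ≃* Multiplicative (ZMod (2 ^ n)) × Multiplicative (ZMod (2 ^ n)))) ∨
    (∃ (F : Type) (_ : Field F) (_ : Fintype F), Fintype.card F = 4 ∧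
      ∀ P : Sylow 2 (Matrix.ProjectiveSpecialLinearGroup (Fin 3) F),
        Nonempty (↥T ≃* ↥(P : Subgroup (Matrix.ProjectiveSpecialLinearGroup (Fin 3) F)))) ∨
    (∃ (F : Type) (_ : Field F) (_ : Fintype F), Fintype.card F = 16 ∧
      ∀ P : Sylow 2 (Cfsg.PSU 3 F 4), Nonempty (↥T ≃* ↥(P : Subgroup (Cfsg.PSU 3 F 4)))) := by
  have h := hyp_of T V hT hVT hV t ρ ht hρ htn.2 hρn.2 hρn.1 htρ hVρ hCt
  rcases classify h with hA | ⟨x, n, hn, hgen, hcard, hx⟩ | hC
  · refine Or.inl ⟨hA.1, fun x hx => ?_⟩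
    rw [pow_two]
    exact congrArg Subtype.val (hA.2 ⟨x, hx⟩)
  · obtain ⟨e, -⟩ := caseB_equiv (h.comm_self x) hgen hcard hx
    exact Or.inr (Or.inl ⟨n, hn, ⟨e.symm⟩⟩)
  · haveI := h.normal
    obtain ⟨b, hP⟩ := h.pres_of_caseC hC
    cases b
    · exact Or.inr (Or.inr (Or.inl ⟨Golay.PSL34.F4, inferInstance, inferInstance,
        Golay.PSL34.F4.card_eq, fun P => embed_psl hP hC.1 P⟩))
    · haveI : Fact (Nat.Prime 2) := ⟨Nat.prime_two⟩
      have hF : @Fintype.card (GaloisField 2 4) (Fintype.ofFinite _) = 16 := by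
        rw [← @Nat.card_eq_fintype_card _ (Fintype.ofFinite _), GaloisField.card 2 4 (by norm_num)]
        norm_num
      exact Or.inr (Or.inr (Or.inr ⟨GaloisField 2 4, inferInstance, Fintype.ofFinite _, hF,
        fun P => @embed_psu _ _ _ hP hC.1 _ _ (Fintype.ofFinite _) hF P⟩))

end Cfsg.Agent.Lib.LAEven56.CentralFour
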